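import Cfsg.Agent.Lib.HY.Am

/-! Facts on the model `am`, second part (generated) -/

set_option autoImplicit false
set_option maxRecDepth 1000000
set_option maxHeartbeats 0

namespace Cfsg.Lib.HY

open Cfsg.Lib.Calc Cfsg.Lib.Grp Cfsg.Lib.T2 Cfsg.Lib.T3 Cfsg.Lib.A16

variable {G : Type*} [Group G] {γ : ℕ → G} {ν : G → ℕ}

namespace C2

/-- a formula -/
def cM_f : Fm := .all 10 40 [(.mul (.l 2) (.l 5), .mul (.l 2) (.l 5))] (.mem 9 (.l 40))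

theorem cM_ev : am.eval cM_f = true := by decide +kernel

theorem cM (g : Gf am γ 10 [.l 14]) :
    ∀ i ∈ genW γ (am.ws 10), i * (γ 2 * γ 5) = γ 2 * γ 5 * i → i ∈ genW γ (am.ws 9) :=
  g.transfer (by decide +kernel) cM_ev

/-- a formula -/
def fz1_f : Fx := .all 10 40 [] (.imp (.fm (.one (.mul (.l 40) (.l 40)))) (.imp (.nu (.l 40) 32) (.imp (.nu (.mul (.l 40) (.l 1)) 32) (.fm (.mem 3 (.l 40))))))

theorem fz1_ev : evx am fz1_f = true := by decide +kernel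

theorem fz1 (g : Gx am γ 10 [.l 14] ν) :
    ∀ i ∈ genW γ (am.ws 10), i * i = 1 → ν i = 32 → ν (i * γ 1) = 32 → i ∈ genW γ (am.ws 3) :=
  g.transfer (by decide +kernel) fz1_ev

/-- a formula -/
def fz2_f : Fx := .all 3 40 [] (.imp (.nu (.l 40) 32) (.imp (.nu (.mul (.l 40) (.l 1)) 32) (.all 3 41 [(.l 40, .l 40)] (.imp (.nu (.l 41) 32) (.imp (.nu (.mul (.l 41) (.l 1)) 32) (.imp (.nu (.mul (.l 40) (.l 41)) 48) (.not (.nu (.mul (.mul (.l 40) (.l 41)) (.l 1)) 32))))))))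

theorem fz2_ev : evx am fz2_f = true := by decide +kernel

theorem fz2 (g : Gx am γ 10 [.l 14] ν) :
    ∀ i ∈ genW γ (am.ws 3), ν i = 32 → ν (i * γ 1) = 32 → ∀ j ∈ genW γ (am.ws 3), j * i = i * j → ν j = 32 → ν (j * γ 1) = 32 → ν (i * j) = 48 → ν (i * j * γ 1) ≠ 32 :=
  g.transfer (by decide +kernel) fz2_ev

/-- a formula -/
def fm0_f : Fx := .all 9 40 [] (.imp (.fm (.one (.mul (.l 40) (.l 40)))) (.imp (.nu (.l 40) 32) (.fm (.mem 6 (.l 40)))))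

theorem fm0_ev : evx am fm0_f = true := by decide +kernel

theorem fm0 (g : Gx am γ 10 [.l 14] ν) :
    ∀ i ∈ genW γ (am.ws 9), i * i = 1 → ν i = 32 → i ∈ genW γ (am.ws 6) :=
  g.transfer (by decide +kernel) fm0_ev

/-- a formula -/
def fm1_f : Fx := .all 6 40 [] (.imp (.fm (.one (.mul (.l 40) (.l 40)))) (.imp (.nu (.l 40) 32) (.imp (.nu (.mul (.l 40) (.mul (.l 2) (.l 5))) 48) (.all 6 41 [(.l 40, .l 40)] (.imp (.fm (.one (.mul (.l 41) (.l 41)))) (.imp (.nu (.l 41) 32) (.imp (.nu (.mul (.l 41) (.mul (.l 2) (.l 5))) 48) (.imp (.nu (.mul (.l 40) (.l 41)) 48) (.imp (.nu (.mul (.mul (.l 40) (.l 41)) (.mul (.l 2) (.l 5))) 48) (.fm (.and (.not (.ex 9 42 [(.l 40, .l 41), (.l 41, .l 40)] (.tt))) (.not (.ex 9 42 [(.mul (.mul (.l 14) (.l 40)) (.inv (.l 14)), .l 41), (.mul (.mul (.l 14) (.l 41)) (.inv (.l 14)), .l 40)] (.tt))))))))))))))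

theorem fm1_ev : evx am fm1_f = true := by decide +kernel

theorem fm1 (g : Gx am γ 10 [.l 14] ν) :
    ∀ i ∈ genW γ (am.ws 6), i * i = 1 → ν i = 32 → ν (i * (γ 2 * γ 5)) = 48 → ∀ j ∈ genW γ (am.ws 6), j * i = i * j → j * j = 1 → ν j = 32 → ν (j * (γ 2 * γ 5)) = 48 → ν (i * j) = 48 → ν (i * j * (γ 2 * γ 5)) = 48 → ¬ (∃ n ∈ genW γ (am.ws 9), n * i = j * n ∧ n * j = i * n ∧ True) ∧ ¬ (∃ n ∈ genW γ (am.ws 9), n * (γ 14 * i * (γ 14)⁻¹) = j * n ∧ n * (γ 14 * j * (γ 14)⁻¹) = i * n ∧ True) :=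
  g.transfer (by decide +kernel) fm1_ev

end C2

end Cfsg.Lib.HY
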