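import Cfsg.Agent.Lib.HY.Am

/-! Facts on the model `am` (generated) -/

set_option autoImplicit false
set_option maxRecDepth 1000000
set_option maxHeartbeats 0

namespace Cfsg.Lib.HY

open Cfsg.Lib.Calc Cfsg.Lib.Grp Cfsg.Lib.T2 Cfsg.Lib.T3 Cfsg.Lib.A16

variable {G : Type*} [Group G] {γ : ℕ → G} {ν : G → ℕ}

namespace C2

/-- a formula -/
def cls_f : Fx := .all 10 40 [] (.imp (.fm (.one (.mul (.l 40) (.l 40)))) (.or (.fm (.one (.l 40))) (.or (.and (.nu (.l 40) 32) (.fm (.or (.mem 1 (.l 40)) (.or (.mem 2 (.l 40)) (.or (.and (.mem 12 (.mul (.l 40) (.l 10))) (.ex 10 41 [(.l 40, .l 10)] (.tt))) (.or (.and (.mem 12 (.mul (.l 40) (.l 9))) (.ex 10 41 [(.l 40, .l 9)] (.tt))) (.and (.tt) (.ex 10 41 [(.l 40, .l 8)] (.tt))))))))) (.and (.nu (.l 40) 48) (.or (.fm (.and (.mem 12 (.mul (.mul (.l 40) (.l 4)) (.l 9)))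 (.ex 10 41 [(.l 40, .mul (.l 4) (.l 9))] (.tt)))) (.or (.fm (.and (.mem 12 (.mul (.mul (.l 40) (.l 4)) (.l 7))) (.ex 10 41 [(.l 40, .mul (.l 4) (.l 7))] (.tt)))) (.or (.fm (.and (.mem 12 (.mul (.mul (.l 40) (.l 10)) (.l 7))) (.ex 10 41 [(.l 40, .mul (.l 10) (.l 7))] (.tt)))) (.or (.and (.and (.fm (.mem 12 (.mul (.l 40) (.l 10)))) (.nu (.mul (.l 40) (.l 1)) 32)) (.fm (.ex 10 41 [(.l 40, .mul (.l 10) (.l 1))] (.tt)))) (.or (.fm (.and (.mem 12 (.mul (.l 40) (.l 10))) (.ex 10 41 [(.l 40, .mul (.l 10) (.l 2))] (.tt)))) (.or (.and (.and (.fm (.mem 12 (.mul (.l 40) (.l 9)))) (.nu (.mul (.l 40) (.l 1)) 32)) (.fm (.ex 10 41 [(.l 40, .mul (.l 9) (.l 1))] (.tt)))) (.fm (.or (.and (.mem 12 (.mul (.l 40) (.l 9))) (.ex 10 41 [(.l 40, .mul (.l 9) (.l 5))] (.tt))) (.or (.and (.mem 12 (.mul (.l 40) (.l 4))) (.ex 10 41 [(.l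 40, .mul (.l 4) (.l 6))] (.tt))) (.or (.and (.mem 12 (.mul (.l 40) (.l 7))) (.ex 10 41 [(.l 40, .mul (.l 3) (.l 7))] (.tt))) (.or (.and (.mem 13 (.mul (.mul (.l 40) (.l 3)) (.l 8))) (.ex 10 41 [(.l 40, .mul (.l 3) (.l 8))] (.tt))) (.or (.and (.mem 13 (.mul (.mul (.l 40) (.l 8)) (.l 6))) (.ex 10 41 [(.l 40, .mul (.l 8) (.l 6))] (.tt))) (.or (.and (.mem 13 (.mul (.l 40) (.l 3))) (.ex 10 41 [(.l 40, .mul (.l 3) (.l 5))] (.tt))) (.or (.and (.mem 13 (.mul (.l 40) (.l 6))) (.ex 10 41 [(.l 40, .mul (.l 2) (.l 6))] (.tt))) (.or (.and (.mem 13 (.mul (.l 40) (.l 8))) (.ex 10 41 [(.l 40, .mul (.l 8) (.l 1))] (.tt))) (.and (.tt) (.ex 10 41 [(.l 40, .mul (.l 2) (.l 5))] (.tt))))))))))))))))))))))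

theorem cls_ev : evx am cls_f = true := by decide +kernel

theorem cls (g : Gx am γ 10 [.l 14] ν) :
    ∀ i ∈ genW γ (am.ws 10), i * i = 1 → i = 1 ∨ ν i = 32 ∧ (i ∈ genW γ (am.ws 1) ∨ i ∈ genW γ (am.ws 2) ∨ i * γ 10 ∈ genW γ (am.ws 12) ∧ (∃ v ∈ genW γ (am.ws 10), v * i = γ 10 * v ∧ True) ∨ i * γ 9 ∈ genW γ (am.ws 12) ∧ (∃ v ∈ genW γ (am.ws 10), v * i = γ 9 * v ∧ True) ∨ True ∧ (∃ v ∈ genW γ (am.ws 10), v * i = γ 8 * v ∧ True)) ∨ ν i = 48 ∧ (i * γ 4 * γ 9 ∈ genW γ (am.ws 12) ∧ (∃ v ∈ genW γ (am.ws 10), v * i = γ 4 * γ 9 * v ∧ True) ∨ i * γ 4 * γ 7 ∈ genW γ (am.ws 12) ∧ (∃ v ∈ genW γ (am.ws 10), v * i = γ 4 * γ 7 * v ∧ True) ∨ i * γ 10 * γ 7 ∈ genW γ (am.ws 12) ∧ (∃ v ∈ genW γ (am.ws 10), v * i = γ 10 * γ 7 * v ∧ True) ∨ (i * γ 10 ∈ genW γ (am.ws 12) ∧ ν (i * γ 1) = 32) ∧ (∃ v ∈ genW γ (am.ws 10), v * i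 = γ 10 * γ 1 * v ∧ True) ∨ i * γ 10 ∈ genW γ (am.ws 12) ∧ (∃ v ∈ genW γ (am.ws 10), v * i = γ 10 * γ 2 * v ∧ True) ∨ (i * γ 9 ∈ genW γ (am.ws 12) ∧ ν (i * γ 1) = 32) ∧ (∃ v ∈ genW γ (am.ws 10), v * i = γ 9 * γ 1 * v ∧ True) ∨ i * γ 9 ∈ genW γ (am.ws 12) ∧ (∃ v ∈ genW γ (am.ws 10), v * i = γ 9 * γ 5 * v ∧ True) ∨ i * γ 4 ∈ genW γ (am.ws 12) ∧ (∃ v ∈ genW γ (am.ws 10), v * i = γ 4 * γ 6 * v ∧ True) ∨ i * γ 7 ∈ genW γ (am.ws 12) ∧ (∃ v ∈ genW γ (am.ws 10), v * i = γ 3 * γ 7 * v ∧ True) ∨ i * γ 3 * γ 8 ∈ genW γ (am.ws 13) ∧ (∃ v ∈ genW γ (am.ws 10), v * i = γ 3 * γ 8 * v ∧ True) ∨ i * γ 8 * γ 6 ∈ genW γ (am.ws 13) ∧ (∃ v ∈ genW γ (am.ws 10), v * i = γ 8 * γ 6 * v ∧ True) ∨ i * γ 3 ∈ genW γ (am.ws 13) ∧ (∃ v ∈ genW γ (am.ws 10), v * i = γ 3 * γ 5 * v ∧ True) ∨ i * γ 6 ∈ genW γ (am.ws 13) ∧ (∃ v ∈ genW γ (am.ws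 10), v * i = γ 2 * γ 6 * v ∧ True) ∨ i * γ 8 ∈ genW γ (am.ws 13) ∧ (∃ v ∈ genW γ (am.ws 10), v * i = γ 8 * γ 1 * v ∧ True) ∨ True ∧ (∃ v ∈ genW γ (am.ws 10), v * i = γ 2 * γ 5 * v ∧ True)) :=
  g.transfer (by decide +kernel) cls_ev

/-- a formula -/
def cjx_f : Fm := .all 10 40 [] (.imp (.or (.eq (.mul (.mul (.l 40) (.l 14)) (.l 40)) (.l 14)) (.eq (.mul (.mul (.l 40) (.l 14)) (.l 40)) (.mul (.l 1) (.l 14)))) (.ex 10 41 [(.mul (.l 40) (.l 14), .l 14)] (.tt)))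

theorem cjx_ev : am.eval cjx_f = true := by decide +kernel

theorem cjx (g : Gf am γ 10 [.l 14]) :
    ∀ l ∈ genW γ (am.ws 10), l * γ 14 * l = γ 14 ∨ l * γ 14 * l = γ 1 * γ 14 → ∃ v ∈ genW γ (am.ws 10), v * (l * γ 14) = γ 14 * v ∧ True :=
  g.transfer (by decide +kernel) cjx_ev

/-- a formula -/
def cW_f : Fm := .all 10 40 [(.l 14, .l 14)] (.mem 8 (.l 40))

theorem cW_ev : am.eval cW_f = true := by decide +kernel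

theorem cW (g : Gf am γ 10 [.l 14]) :
    ∀ i ∈ genW γ (am.ws 10), i * γ 14 = γ 14 * i → i ∈ genW γ (am.ws 8) :=
  g.transfer (by decide +kernel) cW_ev

/-- a formula -/
def sqJ_f : Fm := .all 6 40 [] (.not (.eq (.mul (.l 40) (.l 40)) (.mul (.l 2) (.l 5))))

theorem sqJ_ev : am.eval sqJ_f = true := by decide +kernel

theorem sqJ (g : Gf am γ 10 [.l 14]) :
    ∀ i ∈ genW γ (am.ws 6), i * i ≠ γ 2 * γ 5 :=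
  g.transfer (by decide +kernel) sqJ_ev

/-- a formula -/
def cJ_f : Fm := .mem 7 (.l 40)

theorem cJ_ev : am.eval (cenF am 10 6 cJ_f) = true := by decide +kernel

theorem cJ (g : Gf am γ 10 [.l 14]) :
    ∀ i ∈ genW γ (am.ws 10), i ∈ Subgroup.centralizer (genW γ (am.ws 6) : Set G) → i ∈ genW γ (am.ws 7) :=
  cen_all g (by decide +kernel) cJ_ev

/-- a formula -/
def xF_f : Fm := .all 7 40 [] (.not (.eq (.mul (.mul (.mul (.l 14) (.l 40)) (.inv (.l 14))) (.l 40)) (.mul (.mul (.mul (.l 8) (.l 5)) (.l 2)) (.l 1))))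

theorem xF_ev : am.eval xF_f = true := by decide +kernel

theorem xF (g : Gf am γ 10 [.l 14]) :
    ∀ i ∈ genW γ (am.ws 7), γ 14 * i * (γ 14)⁻¹ * i ≠ γ 8 * γ 5 * γ 2 * γ 1 :=
  g.transfer (by decide +kernel) xF_ev

end C2

end Cfsg.Lib.HY
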