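import Cfsg.Agent.Lib.HY.St

/-!
# Facts on `T` (generated)
-/

set_option autoImplicit false
set_option linter.unusedSectionVars false
set_option maxHeartbeats 400000
set_option maxRecDepth 100000

namespace Cfsg.Lib.HY

open Subgroup Cfsg.Lib.BG Cfsg.Lib.GW Cfsg.Lib.Transfer Cfsg.Lib.Calc Cfsg.Lib.Grp Cfsg.Lib.T2 Cfsg.Lib.T3
open Cfsg.Lib.D6 (memg cj_inj cj_sq cj_comm pg_zp cm_cj pw_cj cj_back cj_cj two_dec)
open Cfsg.Lib.A16 (E2 zp2 mem_sup_zp half card_le_list tb_pc pcR pcG pcB)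

universe u

variable {G : Type u} [Group G] [Finite G] {A D V X Y : Subgroup G} {Γ : Subgroup (G × PP)} {n o x y : G} {x' y' : PP}
  {γ : ℕ → G} {i j k : ℕ} {b : Bool} {N : List W} {s t : W}

local notation:max "𝐳" => γ 1
local notation:max "𝐚" => γ 2
local notation:max "𝐛" => γ 3
local notation:max "𝐜" => γ 4
local notation:max "𝐝" => γ 5
local notation:max "𝐞" => γ 6
local notation:max "𝐟" => γ 7
local notation:max "𝐠" => γ 8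
local notation:max "𝐡" => γ 9
local notation:max "𝐤" => γ 10
local notation:max "𝐬" => γ 11
local notation:max "𝐭" => γ 12
local notation:max "𝐪" => γ 13
local notation:max "𝐮" => γ 14
local notation:max "𝐯" => γ 15
local notation:max "𝐲" => γ 16
local notation:max "𝐰" => γ 17
local notation:max "𝐫" => γ 18
local notation:max "𝐨" => γ 19
local notation:max "𝐩" => γ 20
local notation:max "𝐊" k:max => genW γ (sm.ws k)
local notation:max "#" X:max => Nat.card ↥X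

/-- a formula -/
def invT_f : Fm := .all 16 40 [] (.imp (.one (.mul (.l 40) (.l 40))) (.imp (.eq (.mul (.l 40) (.mul (.mul (.mul (.mul (.l 4) (.l 10)) (.l 17)) (.l 40)) (.mul (.mul (.inv (.l 17)) (.inv (.l 10))) (.inv (.l 4))))) (.mul (.mul (.mul (.mul (.mul (.l 4) (.l 10)) (.l 17)) (.l 40)) (.mul (.mul (.inv (.l 17)) (.inv (.l 10))) (.inv (.l 4)))) (.l 40))) (.imp (.eq (.mul (.l 40) (.mul (.mul (.mul (.l 9) (.l 16)) (.l 40)) (.mul (.inv (.l 16)) (.inv (.l 9))))) (.mul (.mul (.mul (.mul (.l 9) (.l 16)) (.l 40)) (.mul (.inv (.l 16)) (.inv (.l 9)))) (.l 40))) (.or (.mem 13 (.l 40)) (.mem 12 (.l 40))))))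

theorem invT_ev : sm.eval invT_f = true := by decide +kernel

theorem invT (g : Gf sm γ 16 []) :
    ∀ i ∈ genW γ (sm.ws 16), i * i = 1 → i * (γ 4 * γ 10 * γ 17 * i * ((γ 17)⁻¹ * (γ 10)⁻¹ * (γ 4)⁻¹)) = γ 4 * γ 10 * γ 17 * i * ((γ 17)⁻¹ * (γ 10)⁻¹ * (γ 4)⁻¹) * i → i * (γ 9 * γ 16 * i * ((γ 16)⁻¹ * (γ 9)⁻¹)) = γ 9 * γ 16 * i * ((γ 16)⁻¹ * (γ 9)⁻¹) * i → i ∈ genW γ (sm.ws 13) ∨ i ∈ genW γ (sm.ws 12) :=
  g.transfer (by decide +kernel) invT_ev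

/-- a formula -/
def zU_f : Fm := .mem 11 (.l 40)

theorem zU_ev : sm.eval (A16.cenF sm 12 16 zU_f) = true := by decide +kernel

theorem zU (g : Gf sm γ 16 []) :
    ∀ i ∈ genW γ (sm.ws 12), i ∈ Subgroup.centralizer (genW γ (sm.ws 16) : Set G) → i ∈ genW γ (sm.ws 11) :=
  A16.cen_all g (by decide +kernel) zU_ev

/-- a formula -/
def zUA_f : Fm := .mem 11 (.l 40)

theorem zUA_ev : sm.eval (A16.cenF sm 12 1 zUA_f) = true := by decide +kernel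

theorem zUA (g : Gf sm γ 16 []) :
    ∀ i ∈ genW γ (sm.ws 12), i ∈ Subgroup.centralizer (genW γ (sm.ws 1) : Set G) → i ∈ genW γ (sm.ws 11) :=
  A16.cen_all g (by decide +kernel) zUA_ev

/-- a formula -/
def aH_f : Fm := .all 24 40 [] (.imp (.mem 12 (.mul (.mul (.mul (.l 40) (.l 4)) (.inv (.l 40))) (.inv (.l 4)))) (.imp (.mem 12 (.mul (.mul (.mul (.l 40) (.l 10)) (.inv (.l 40))) (.inv (.l 10)))) (.imp (.mem 12 (.mul (.mul (.mul (.l 40) (.l 17)) (.inv (.l 40))) (.inv (.l 17)))) (.or (.one (.l 40)) (.eq (.l 40) (.l 2))))))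

theorem aH_ev : sm.eval aH_f = true := by decide +kernel

theorem aH (g : Gf sm γ 16 []) :
    ∀ i ∈ genW γ (sm.ws 24), i * γ 4 * i⁻¹ * (γ 4)⁻¹ ∈ genW γ (sm.ws 12) → i * γ 10 * i⁻¹ * (γ 10)⁻¹ ∈ genW γ (sm.ws 12) → i * γ 17 * i⁻¹ * (γ 17)⁻¹ ∈ genW γ (sm.ws 12) → i = 1 ∨ i = γ 2 :=
  g.transfer (by decide +kernel) aH_ev

/-- a formula -/
def dU_f : Fm := .all 12 40 [] (.imp (.mem 11 (.mul (.mul (.mul (.l 40) (.l 4)) (.inv (.l 40))) (.inv (.l 4)))) (.imp (.mem 11 (.mul (.mul (.mul (.l 40) (.l 10)) (.inv (.l 40))) (.inv (.l 10)))) (.imp (.mem 11 (.mul (.mul (.mul (.l 40) (.l 17)) (.inv (.l 40))) (.inv (.l 17)))) (.imp (.mem 11 (.mul (.mul (.mul (.l 40) (.l 9)) (.inv (.l 40))) (.inv (.l 9)))) (.mem 27 (.l 40))))))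

theorem dU_ev : sm.eval dU_f = true := by decide +kernel

theorem dU (g : Gf sm γ 16 []) :
    ∀ i ∈ genW γ (sm.ws 12), i * γ 4 * i⁻¹ * (γ 4)⁻¹ ∈ genW γ (sm.ws 11) → i * γ 10 * i⁻¹ * (γ 10)⁻¹ ∈ genW γ (sm.ws 11) → i * γ 17 * i⁻¹ * (γ 17)⁻¹ ∈ genW γ (sm.ws 11) → i * γ 9 * i⁻¹ * (γ 9)⁻¹ ∈ genW γ (sm.ws 11) → i ∈ genW γ (sm.ws 27) :=
  g.transfer (by decide +kernel) dU_ev

/-- a formula -/
def bcH_f : Fm := .all 24 40 [(.l 5, .l 5)] (.imp (.mem 12 (.mul (.l 40) (.l 40))) (.all 24 41 [] (.imp (.mem 12 (.mul (.l 41) (.l 41))) (.imp (.mem 12 (.mul (.mul (.mul (.l 40) (.l 41)) (.inv (.l 40))) (.inv (.l 41)))) (.imp (.all 12 42 [(.l 2, .l 2), (.l 40, .l 40), (.l 41, .l 41)] (.mem 11 (.l 42))) (.ex 24 42 [(.l 40, .l 3), (.l 41, .l 4)] (.tt)))))))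

theorem bcH_ev : sm.eval bcH_f = true := by decide +kernel

theorem bcH (g : Gf sm γ 16 []) :
    ∀ i ∈ genW γ (sm.ws 24), i * γ 5 = γ 5 * i → i * i ∈ genW γ (sm.ws 12) → ∀ j ∈ genW γ (sm.ws 24), j * j ∈ genW γ (sm.ws 12) → i * j * i⁻¹ * j⁻¹ ∈ genW γ (sm.ws 12) → (∀ m ∈ genW γ (sm.ws 12), m * γ 2 = γ 2 * m → m * i = i * m → m * j = j * m → m ∈ genW γ (sm.ws 11)) → ∃ l ∈ genW γ (sm.ws 24), l * i = γ 3 * l ∧ l * j = γ 4 * l ∧ True :=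
  g.transfer (by decide +kernel) bcH_ev

/-- a formula -/
def endU_f : Fm := .all 12 40 [(.mul (.l 2) (.l 14), .mul (.l 2) (.l 14))] (.all 12 41 [(.mul (.l 3) (.l 15), .mul (.l 3) (.l 15))] (.imp (.eq (.mul (.mul (.mul (.mul (.l 2) (.l 14)) (.l 41)) (.mul (.l 2) (.l 14))) (.l 41)) (.mul (.mul (.mul (.mul (.l 3) (.l 15)) (.l 40)) (.mul (.l 3) (.l 15))) (.l 40))) (.imp (.eq (.mul (.mul (.mul (.mul (.l 4) (.l 16)) (.mul (.mul (.mul (.mul (.l 2) (.l 14)) (.l 41)) (.mul (.l 2) (.l 14))) (.l 41))) (.mul (.l 4) (.l 16))) (.mul (.mul (.mul (.mul (.l 2) (.l 14)) (.l 41)) (.mul (.l 2) (.l 14))) (.l 41))) (.l 1)) (.all 12 42 [(.mul (.l 4) (.l 16), .mul (.l 4) (.l 16))] (.imp (.eq (.mul (.mul (.mul (.mul (.l 2) (.l 14)) (.l 42)) (.mul (.l 2) (.l 14))) (.l 42)) (.mul (.mul (.mul (.mul (.l 4) (.l 16)) (.l 40)) (.mul (.l 4) (.l 16))) (.l 40))) (.imp (.eq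 (.mul (.mul (.mul (.mul (.l 3) (.l 15)) (.l 42)) (.mul (.l 3) (.l 15))) (.l 42)) (.mul (.mul (.mul (.mul (.l 4) (.l 16)) (.l 41)) (.mul (.l 4) (.l 16))) (.l 41))) (.ex 20 43 [(.mul (.l 2) (.l 14), .mul (.l 2) (.l 14)), (.mul (.l 3) (.l 15), .mul (.l 3) (.l 15)), (.mul (.l 4) (.l 16), .mul (.l 4) (.l 16))] (.and (.mem 11 (.mul (.mul (.mul (.l 43) (.l 40)) (.inv (.l 43))) (.l 14))) (.and (.mem 11 (.mul (.mul (.mul (.l 43) (.l 41)) (.inv (.l 43))) (.l 15))) (.mem 11 (.mul (.mul (.mul (.l 43) (.l 42)) (.inv (.l 43))) (.l 16))))))))))))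

theorem endU_ev : sm.eval endU_f = true := by decide +kernel

theorem endU (g : Gf sm γ 16 []) :
    ∀ i ∈ genW γ (sm.ws 12), i * (γ 2 * γ 14) = γ 2 * γ 14 * i → ∀ j ∈ genW γ (sm.ws 12), j * (γ 3 * γ 15) = γ 3 * γ 15 * j → γ 2 * γ 14 * j * (γ 2 * γ 14) * j = γ 3 * γ 15 * i * (γ 3 * γ 15) * i → γ 4 * γ 16 * (γ 2 * γ 14 * j * (γ 2 * γ 14) * j) * (γ 4 * γ 16) * (γ 2 * γ 14 * j * (γ 2 * γ 14) * j) = γ 1 → ∀ l ∈ genW γ (sm.ws 12), l * (γ 4 * γ 16) = γ 4 * γ 16 * l → γ 2 * γ 14 * l * (γ 2 * γ 14) * l = γ 4 * γ 16 * i * (γ 4 * γ 16) * i → γ 3 * γ 15 * l * (γ 3 * γ 15) * l = γ 4 * γ 16 * j * (γ 4 * γ 16) * j → ∃ m ∈ genW γ (sm.ws 20), m * (γ 2 * γ 14) = γ 2 * γ 14 * m ∧ m * (γ 3 * γ 15) = γ 3 * γ 15 * m ∧ m * (γ 4 * γ 16) = γ 4 * γ 16 * m ∧ m * i * m⁻¹ * γ 14 ∈ genW γ (sm.ws 11) ∧ m * j * m⁻¹ * γ 15 ∈ genW γ (sm.ws 11) ∧ m * l * m⁻¹ * γ 16 ∈ genW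 γ (sm.ws 11) :=
  g.transfer (by decide +kernel) endU_ev

/-- a formula -/
def cUT_f : Fm := .mem 12 (.l 40)

theorem cUT_ev : sm.eval (A16.cenF sm 16 12 cUT_f) = true := by decide +kernel

theorem cUT (g : Gf sm γ 16 []) :
    ∀ i ∈ genW γ (sm.ws 16), i ∈ Subgroup.centralizer (genW γ (sm.ws 12) : Set G) → i ∈ genW γ (sm.ws 12) :=
  A16.cen_all g (by decide +kernel) cUT_ev

/-- a formula -/
def cAB_f : Fm := .mem 11 (.l 40)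

theorem cAB_ev : sm.eval (A16.cenF sm 1 2 cAB_f) = true := by decide +kernel

theorem cAB (g : Gf sm γ 10 []) :
    ∀ i ∈ genW γ (sm.ws 1), i ∈ Subgroup.centralizer (genW γ (sm.ws 2) : Set G) → i ∈ genW γ (sm.ws 11) :=
  A16.cen_all g (by decide +kernel) cAB_ev

/-- a formula -/
def wU_f : Fm := .all 12 40 [] (.imp (.eq (.mul (.mul (.l 17) (.l 40)) (.mul (.l 2) (.l 14))) (.mul (.mul (.l 2) (.l 14)) (.mul (.l 17) (.l 40)))) (.imp (.eq (.mul (.mul (.l 17) (.l 40)) (.mul (.l 3) (.l 15))) (.mul (.mul (.mul (.l 3) (.l 15)) (.mul (.l 8) (.l 14))) (.mul (.l 17) (.l 40)))) (.imp (.eq (.mul (.mul (.l 17) (.l 40)) (.mul (.l 4) (.l 16))) (.mul (.mul (.mul (.l 4) (.l 16)) (.mul (.l 9) (.l 14))) (.mul (.l 17) (.l 40)))) (.or (.eq (.l 40) (.l 14)) (.eq (.l 40) (.mul (.l 14) (.l 1)))))))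

theorem wU_ev : sm.eval wU_f = true := by decide +kernel

theorem wU (g : Gf sm γ 16 []) :
    ∀ i ∈ genW γ (sm.ws 12), γ 17 * i * (γ 2 * γ 14) = γ 2 * γ 14 * (γ 17 * i) → γ 17 * i * (γ 3 * γ 15) = γ 3 * γ 15 * (γ 8 * γ 14) * (γ 17 * i) → γ 17 * i * (γ 4 * γ 16) = γ 4 * γ 16 * (γ 9 * γ 14) * (γ 17 * i) → i = γ 14 ∨ i = γ 14 * γ 1 :=
  g.transfer (by decide +kernel) wU_ev

/-- a formula -/
def sqU_f : Fm := .all 12 40 [] (.one (.mul (.l 40) (.l 40)))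

theorem sqU_ev : sm.eval sqU_f = true := by decide +kernel

theorem sqU (g : Gf sm γ 16 []) :
    ∀ i ∈ genW γ (sm.ws 12), i * i = 1 :=
  g.transfer (by decide +kernel) sqU_ev


end Cfsg.Lib.HY
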