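import Cfsg.Agent.Lib.A16.F1

/-! The symmetric group on `F₂⁴`: letters `1 z 2 a 3 b 4 c 5 d 6 e 7 f 8 g 9 h 10 k 11 s 12 t 13 q 14 u 15 v 16 y 17 w 18 r 19 o 20 p`; subgroups `0 all, 1 A, 2 B, 3 Q0, 4 E2, 5 E1, 6 Z0, 7 R23, 8 R34, 9 R45, 10 T0, 11 z, 12 U, 13 P, 14 P1, 15 T1, 16 T, 17 T2, 18 V23, 19 V34, 20 AU, 21 A0P, 22 Z, 23 R45P, 24 H, 25 T0u, 26 A0P1, 27 zd, 28 zde, 29 baz, 30 U6, 31 N, 32 Cz, 33 GL, 34 A', 35 B', 36 U1, 37 T*, 38 J*, 39 T2*, 40 V34*, 41 AU1, 42 J, 43 D8, 44 zaf, 45 F, 46 UT4, 47 A0, 48 AU^w, 49 aU, 50 abU, 51 V23*, 52 T1*, 53 A0J*, 54 T0 gens, 55 U5` (generated) -/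

set_option autoImplicit false
set_option maxRecDepth 1000000
set_option maxHeartbeats 0

namespace Cfsg.Lib.HY

open Cfsg.Lib.Calc Cfsg.Lib.Grp Cfsg.Lib.T2 Cfsg.Lib.T3

def sm_L0 : List (ℕ × List ℕ) := [((nat_lit 0), [(nat_lit 0xfedcba9876543210), (nat_lit 0xefcdab8967452301), (nat_lit 0xdcfe98ba54761032), (nat_lit 0xba98fedc32107654), (nat_lit 0x76543210fedcba98), (nat_lit 0xcdef89ab45670123), (nat_lit 0xab89efcd23016745), (nat_lit 0x67452301efcdab89), (nat_lit 0x98badcfe10325476), (nat_lit 0x54761032dcfe98ba), (nat_lit 0x32107654ba98fedc), (nat_lit 0x89abcdef01234567), (nat_lit 0x45670123cdef89ab), (nat_lit 0x23016745ab89efcd), (nat_lit 0x1032547698badcfe), (nat_lit 0x123456789abcdef)]),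
  ((nat_lit 1), [(nat_lit 0xfedcba9876543210), (nat_lit 0xfdecb9a875643120), (nat_lit 0xfbead9c873625140), (nat_lit 0xf7e6d5c4b3a29180), (nat_lit 0xe7f6c5d4a3b28190), (nat_lit 0xebfac9d863724150), (nat_lit 0xd7f5c6e493b182a0), (nat_lit 0xdbf9cae853714260), (nat_lit 0xedfca9b865742130), (nat_lit 0xc7e5d6f483a192b0), (nat_lit 0xb7f3a6e295d184c0), (nat_lit 0xcbe9daf843615270), (nat_lit 0xa7e3b6f285c194d0), (nat_lit 0x97d3b5f186c2a4e0), (nat_lit 0x87c3a5e196d2b4f0)]),
  ((nat_lit 2), [(nat_lit 0xfedcba9876543210), (nat_lit 0xfebadc9876325410), (nat_lit 0xfe76dc54ba329810), (nat_lit 0xef76cd54ab328910), (nat_lit 0xaf76c954eb328d10), (nat_lit 0xefbacd9867324510), (nat_lit 0xbe76d854fa329c10), (nat_lit 0xcf76a932ed548b10), (nat_lit 0xefdcab9867542310), (nat_lit 0xde76b832fc549a10), (nat_lit 0xcfba6532ed984710), (nat_lit 0x9a76b832fc54de10), (nat_lit 0xdeba7432fc985610), (nat_lit 0xc7ba6d32e5984f10)]),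
  ((nat_lit 4), [(nat_lit 0xfedcba9876543210), (nat_lit 0x6dbec39875fa4210), (nat_lit 0x5cebd4987f63a210), (nat_lit 0xe6bdf8a3c5794210), (nat_lit 0x6cafd38975eb4210), (nat_lit 0x5fdb64a3c7e89210), (nat_lit 0x5e36b4897fdca210), (nat_lit 0xfb45ea8976cd3210), (nat_lit 0xfd45ca8976be3210), (nat_lit 0x5d8eb43ac76f9210), (nat_lit 0x568db43afce79210), (nat_lit 0x7b45d93acef68210), (nat_lit 0x6e8cd3a4b7f59210)]),
  ((nat_lit 8), [(nat_lit 0xfedcba9876543210), (nat_lit 0x6c95738aebf4d210), (nat_lit 0xcb8fad35e7649210), (nat_lit 0x573e68d9bfc4a210), (nat_lit 0xc7afeb3d65849210), (nat_lit 0xb58feda3c7649210), (nat_lit 0x5f3869db7ec4a210), (nat_lit 0x57a639dfceb48210), (nat_lit 0xfa5cd896be743210), (nat_lit 0xe69583ac7bf4d210), (nat_lit 0xf6dab897ec543210), (nat_lit 0x8c9d53ae67f4b210)]),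
  ((nat_lit 3), [(nat_lit 0xfedcba9876543210), (nat_lit 0x9cbd53a86fe47210), (nat_lit 0x3bf57a986ce4d210), (nat_lit 0x65ced9f837b4a210), (nat_lit 0xd536ea98b7c4f210), (nat_lit 0xad5be738f9c46210), (nat_lit 0x96e3cfa87d54b210), (nat_lit 0xad6b39f87e54c210), (nat_lit 0x7be5cf68a3d49210), (nat_lit 0xafc7d9386be45210), (nat_lit 0x975f6da8b3c4e210)]),
  ((nat_lit 5), [(nat_lit 0xfedcba9876543210), (nat_lit 0x75fdec98a6b43210), (nat_lit 0xdce59a78bf643210), (nat_lit 0xdbca5798f6e43210), (nat_lit 0x6dfe7ab895c43210), (nat_lit 0xb6dec578af943210), (nat_lit 0x9c6fdeb8a5743210), (nat_lit 0xe5c67ab89df43210), (nat_lit 0xf7eac9b865d43210), (nat_lit 0x6cdbf7589ea43210)]),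
  ((nat_lit 6), [(nat_lit 0xfedcba9876543210), (nat_lit 0xbaed67f8c9543210), (nat_lit 0xc76af9b8ed543210), (nat_lit 0x9dc7fe68ab543210), (nat_lit 0x67ae9cb8df543210), (nat_lit 0x9c76deb8fa543210), (nat_lit 0xdc97bf68ae543210), (nat_lit 0x7abe96f8dc543210), (nat_lit 0xfdc9ea68b7543210)]),
  ((nat_lit 7), [(nat_lit 0xfedcba9876543210), (nat_lit 0xaf7d9be8c6543210), (nat_lit 0x9fdcae78b6543210), (nat_lit 0xe9c7afb8d6543210), (nat_lit 0xeadc7bf896543210), (nat_lit 0x79dcefb8a6543210), (nat_lit 0xfb7dc9a8e6543210), (nat_lit 0xabdc97e8f6543210)]),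
  ((nat_lit 9), [(nat_lit 0xfedcba9876543210), (nat_lit 0xca9debf876543210), (nat_lit 0x9bacdfe876543210), (nat_lit 0x9bcfaed876543210), (nat_lit 0xdbf9aec876543210), (nat_lit 0xcdfb9ea876543210), (nat_lit 0xedfca9b876543210)]),
  ((nat_lit 10), [(nat_lit 0xfedcba9876543210), (nat_lit 0xbfcade9876543210), (nat_lit 0xcfeabd9876543210), (nat_lit 0xeabdfc9876543210), (nat_lit 0xdbaecf9876543210), (nat_lit 0xdeacfb9876543210)]),
  ((nat_lit 11), [(nat_lit 0xfedcba9876543210), (nat_lit 0xcdebfa9876543210), (nat_lit 0xfdbeca9876543210), (nat_lit 0xfcebda9876543210), (nat_lit 0xfbcdea9876543210)]),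
  ((nat_lit 12), [(nat_lit 0xfedcba9876543210), (nat_lit 0xdcefba9876543210), (nat_lit 0xcefdba9876543210), (nat_lit 0xcdfeba9876543210)]),
  ((nat_lit 13), [(nat_lit 0xfedcba9876543210), (nat_lit 0xedfcba9876543210), (nat_lit 0xfdecba9876543210)]),
  ((nat_lit 14), [(nat_lit 0xfedcba9876543210), (nat_lit 0xefdcba9876543210)])]

def sm_D0 : List ℕ := [(nat_lit 0), (nat_lit 513), (nat_lit 1025), (nat_lit 1537), (nat_lit 2049), (nat_lit 586754), (nat_lit 609794), (nat_lit 632834), (nat_lit 684546), (nat_lit 708610), (nat_lit 763906), (nat_lit 853506), (nat_lit 880642), (nat_lit 942082), (nat_lit 1041410), (nat_lit 1181698), (nat_lit 0), (nat_lit 6657), (nat_lit 1523714), (nat_lit 1603074), (nat_lit 1681922), (nat_lit 1768962), (nat_lit 1811970), (nat_lit 1899010), (nat_lit 1941506), (nat_lit 2028034), (nat_lit 2075650), (nat_lit 2266626), (nat_lit 2314242), (nat_lit 2515458), (nat_lit 2613762), (nat_lit 0), (nat_lit 6145), (nat_lit 2936322), (nat_lit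 3043842), (nat_lit 39846246660), (nat_lit 3215874), (nat_lit 3328514), (nat_lit 3389442), (nat_lit 3508226), (nat_lit 3629058), (nat_lit 3751426), (nat_lit 62834388228), (nat_lit 4003330), (nat_lit 70175232772), (nat_lit 0), (nat_lit 598843139), (nat_lit 597928707), (nat_lit 0x6232e8d7b2f06), (nat_lit 4805122), (nat_lit 0x72f0bde868b06), (nat_lit 107709120260), (nat_lit 112227939588), (nat_lit 120235781892), (nat_lit 0x9ff84e1a40306), (nat_lit 0xaae53b3ee2b06), (nat_lit 0xb8f69a57d9f06), (nat_lit 146568867588), (nat_lit 0), (nat_lit 25973468691717), (nat_lit 1008222467), (nat_lit 29032035079941), (nat_lit 1044547843), (nat_lit 0x13962e6528f506), (nat_lit 202331960580), (nat_lit 0x164d8fde11b106), (nat_lit 219638573316), (nat_lit 0x1904b43f77ab06), (nat_lit 0x1bc4eda5f1eb06), (nat_lit 255036756740), (nat_lit 0), (nat_lit 0x18eeafd467254907), (nat_lit 51722747526917), (nat_lit 0x1bbcde4e36117907), (nat_lit 54973951477509), (nat_lit 0x18afcdf4b177e67108),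 (nat_lit 0x2e32c8281e2306), (nat_lit 0x1cd27a2c1f282cd108), (nat_lit 0x1f464e1db11de09b08), (nat_lit 0x229f33a1ba31a71908), (nat_lit 0x3b974aaa0abb06), (nat_lit 0), (nat_lit 0x20da5d840a1536bb2d09), (nat_lit 0x36522e113603cd07), (nat_lit 0x27f3310ae62292f0c909), (nat_lit 0x3ce30ec09c426107), (nat_lit 0x3b030d4db9cca1af08), (nat_lit 0x3efadcf8f772d11508), (nat_lit 0x43d2f0c60fd371a308), (nat_lit 0x48fdae8b4c2a95a908), (nat_lit 0x3b0a411bb6bccf4d84950a), (nat_lit 0), (nat_lit 0x3f7e96b35a42699f169a9d0b), (nat_lit 0x53762e64d2263873b909), (nat_lit 0x4afe211071beee87a7ebab0b), (nat_lit 0x4cda68dc6e10a6298c79a1d30c), (nat_lit 0x6512b6780b48e58c29a10a), (nat_lit 0x5d90364d683dc33e0e81c5ef0c), (nat_lit 0x66a83fd656aee71c9ac4aec30c), (nat_lit 0x73817d5bfda1d682f07878ab0c), (nat_lit 0), (nat_lit 0x93ca95651e53bdeb07217f0b), (nat_lit 0x9afc8f56b6ff05f61a92730b), (nat_lit 0xaaf89091578e75bd638a970b), (nat_lit 0xb7afe3824fbd5edd8604410b), (nat_lit 0xcfa46652d053a7be7a3b8a250c),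 (nat_lit 0xe632b325110abbcc0fcf739d0c), (nat_lit 0xfae8d4bca4940b97a9bdd3e70c), (nat_lit 0), (nat_lit 0x130a2cf700c328ebceea1bb5d330d), (nat_lit 0x1435d08bd5de4c704cf2f7585870d), (nat_lit 0x1652a799ca34448d5f1a622a6350d), (nat_lit 0x1ad701368882b85d35e07380140910e), (nat_lit 0x1d94ae26af2b89d39da26d3611a390e), (nat_lit 0x20d4e0360d7f47e08257a6ebc29cf0e), (nat_lit 0), (nat_lit 0x2b303716507f7312e6bb83c4b84a2410f), (nat_lit 0x2b5aac79953594856b4efd91eec390e), (nat_lit 0x34e6af80d2313bd070713dcdb14558d0f), (nat_lit 0x41e7578e942525cf6113039da7752c74310), (nat_lit 0x49dc4fde365e1e9725afd6d6e5623f41110), (nat_lit 0), (nat_lit 0x5b398ccd59a3b590e9d63083486b7823510), (nat_lit 0x5aac02553bc3df7286e429494791b150f), (nat_lit 0x57ae7c1a6044323d68dbb7d2517885d0f), (nat_lit 0x81f921569430611285848adc2c4537f4910), (nat_lit 0), (nat_lit 0xb70586dc87a64d7a5cca48dee3178f1aea711), (nat_lit 0xcd4114b5bdbfea9327b43906eea63501f8111), (nat_lit 0xe2c4e48ab76ffc304985fdfd9c6a5fae4a311),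 (nat_lit 0), (nat_lit 0x19938f07a74af567f536cf763774e7269b1c02fb13), (nat_lit 0x1813f4f365bc9892d114c2ab52731fcf325ae912), (nat_lit 0), (nat_lit 0x2d37d7f878a247703ae3e5e349389e49f239f322af14)]

def sm_L1 : List (ℕ × List ℕ) := [((nat_lit 0), [(nat_lit 0xfedcba9876543210), (nat_lit 0x76543210fedcba98), (nat_lit 0xba98fedc32107654), (nat_lit 0xdcfe98ba54761032), (nat_lit 0xefcdab8967452301), (nat_lit 0x32107654ba98fedc), (nat_lit 0x54761032dcfe98ba), (nat_lit 0x67452301efcdab89), (nat_lit 0x98badcfe10325476), (nat_lit 0xab89efcd23016745), (nat_lit 0xcdef89ab45670123), (nat_lit 0x1032547698badcfe), (nat_lit 0x23016745ab89efcd), (nat_lit 0x45670123cdef89ab), (nat_lit 0x89abcdef01234567), (nat_lit 0x123456789abcdef)])]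

def sm_D1 : List ℕ := [(nat_lit 0), (nat_lit 513), (nat_lit 1025), (nat_lit 1537), (nat_lit 2049), (nat_lit 62466), (nat_lit 69122), (nat_lit 75778), (nat_lit 94722), (nat_lit 102402), (nat_lit 124930), (nat_lit 165378), (nat_lit 176130), (nat_lit 204802), (nat_lit 254978), (nat_lit 329730)]

def sm_L2 : List (ℕ × List ℕ) := [((nat_lit 0), [(nat_lit 0xfedcba9876543210), (nat_lit 0xefcdab8967452301)]),
  ((nat_lit 8), [(nat_lit 0xfedcba9876543210), (nat_lit 0xefcdab8976543210)]),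
  ((nat_lit 4), [(nat_lit 0xfedcba9876543210), (nat_lit 0xefcdba9867453210)]),
  ((nat_lit 2), [(nat_lit 0xfedcba9876543210), (nat_lit 0xefdcab9867542310)])]

def sm_D2 : List ℕ := [(nat_lit 0), (nat_lit 513), (nat_lit 0), (nat_lit 1025), (nat_lit 0), (nat_lit 1537), (nat_lit 0), (nat_lit 2049)]

def sm_L3 : List (ℕ × List ℕ) := [((nat_lit 0), [(nat_lit 0xfedcba9876543210), (nat_lit 0xefcdab8967452301), (nat_lit 0xdcfe98ba54761032), (nat_lit 0xba98fedc32107654), (nat_lit 0x76543210fedcba98), (nat_lit 0xcdef89ab45670123), (nat_lit 0xab89efcd23016745), (nat_lit 0x67452301efcdab89), (nat_lit 0x98badcfe10325476), (nat_lit 0x54761032dcfe98ba), (nat_lit 0x32107654ba98fedc), (nat_lit 0x89abcdef01234567), (nat_lit 0x45670123cdef89ab), (nat_lit 0x23016745ab89efcd), (nat_lit 0x1032547698badcfe), (nat_lit 0x123456789abcdef)]),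
  ((nat_lit 8), [(nat_lit 0xfedcba9876543210), (nat_lit 0xefcdab8976543210)]),
  ((nat_lit 4), [(nat_lit 0xfedcba9876543210), (nat_lit 0xefcdba9867453210)]),
  ((nat_lit 2), [(nat_lit 0xfedcba9876543210), (nat_lit 0xefdcab9867542310)])]

def sm_D3 : List ℕ := [(nat_lit 0), (nat_lit 513), (nat_lit 1025), (nat_lit 1537), (nat_lit 2049), (nat_lit 120834), (nat_lit 130562), (nat_lit 140290), (nat_lit 165378), (nat_lit 176130), (nat_lit 204802), (nat_lit 254466), (nat_lit 268290), (nat_lit 303106), (nat_lit 362498), (nat_lit 449538), (nat_lit 0), (nat_lit 2561), (nat_lit 0), (nat_lit 3073), (nat_lit 0), (nat_lit 3585)]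

def sm_L4 : List (ℕ × List ℕ) := [((nat_lit 0), [(nat_lit 0xfedcba9876543210), (nat_lit 0xefcdab8967452301), (nat_lit 0xdcfe98ba54761032), (nat_lit 0xcdef89ab45670123)]),
  ((nat_lit 8), [(nat_lit 0xfedcba9876543210), (nat_lit 0xefcdab8976543210), (nat_lit 0xdcfe98ba76543210), (nat_lit 0xcdef89ab76543210)]),
  ((nat_lit 4), [(nat_lit 0xfedcba9876543210), (nat_lit 0xefcdba9867453210), (nat_lit 0xdcfeba9854763210), (nat_lit 0xcdefba9845673210)])]

def sm_D4 : List ℕ := [(nat_lit 0), (nat_lit 513), (nat_lit 1025), (nat_lit 82946), (nat_lit 0), (nat_lit 1537), (nat_lit 2561), (nat_lit 174594), (nat_lit 0), (nat_lit 2049), (nat_lit 3073), (nat_lit 297986)]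

def sm_L5 : List (ℕ × List ℕ) := [((nat_lit 0), [(nat_lit 0xfedcba9876543210), (nat_lit 0xefcdab8967452301), (nat_lit 0xdcfe98ba54761032), (nat_lit 0xba98fedc32107654), (nat_lit 0xcdef89ab45670123), (nat_lit 0xab89efcd23016745), (nat_lit 0x98badcfe10325476), (nat_lit 0x89abcdef01234567)]),
  ((nat_lit 8), [(nat_lit 0xfedcba9876543210), (nat_lit 0xefcdab8976543210), (nat_lit 0xdcfe98ba76543210), (nat_lit 0xba98fedc76543210), (nat_lit 0xcdef89ab76543210), (nat_lit 0xab89efcd76543210), (nat_lit 0x98badcfe76543210), (nat_lit 0x89abcdef76543210)])]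

def sm_D5 : List ℕ := [(nat_lit 0), (nat_lit 513), (nat_lit 1025), (nat_lit 1537), (nat_lit 91138), (nat_lit 99842), (nat_lit 121346), (nat_lit 159234), (nat_lit 0), (nat_lit 2049), (nat_lit 2561), (nat_lit 3073), (nat_lit 313858), (nat_lit 330754), (nat_lit 368642), (nat_lit 431106)]

def sm_L6 : List (ℕ × List ℕ) := [((nat_lit 0), [(nat_lit 0xfedcba9876543210), (nat_lit 0xdcfe98ba54761032), (nat_lit 0xefcdab8967452301), (nat_lit 0xcdef89ab45670123)])]

def sm_D6 : List ℕ := [(nat_lit 0), (nat_lit 513), (nat_lit 1025), (nat_lit 25602)]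

def sm_L7 : List (ℕ × List ℕ) := [((nat_lit 0), [(nat_lit 0xfedcba9876543210), (nat_lit 0xefcdab8967452301), (nat_lit 0xdcfe98ba54761032), (nat_lit 0xba98fedc32107654), (nat_lit 0x76543210fedcba98), (nat_lit 0xcdef89ab45670123), (nat_lit 0xab89efcd23016745), (nat_lit 0x67452301efcdab89), (nat_lit 0x98badcfe10325476), (nat_lit 0x54761032dcfe98ba), (nat_lit 0x32107654ba98fedc), (nat_lit 0x89abcdef01234567), (nat_lit 0x45670123cdef89ab), (nat_lit 0x23016745ab89efcd), (nat_lit 0x1032547698badcfe), (nat_lit 0x123456789abcdef)]),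
  ((nat_lit 8), [(nat_lit 0xfedcba9876543210), (nat_lit 0xefcdab8976543210), (nat_lit 0xdcfe98ba76543210), (nat_lit 0xcdef89ab76543210)]),
  ((nat_lit 4), [(nat_lit 0xfedcba9876543210), (nat_lit 0xefcdba9867453210), (nat_lit 0xdcfeba9854763210), (nat_lit 0xcdefba9845673210)]),
  ((nat_lit 2), [(nat_lit 0xfedcba9876543210), (nat_lit 0xefdcab9867542310)])]

def sm_D7 : List ℕ := [(nat_lit 0), (nat_lit 513), (nat_lit 1025), (nat_lit 1537), (nat_lit 2049), (nat_lit 169986), (nat_lit 181762), (nat_lit 193538), (nat_lit 222722), (nat_lit 235522), (nat_lit 268290), (nat_lit 324098), (nat_lit 339970), (nat_lit 378882), (nat_lit 444418), (nat_lit 539650), (nat_lit 0), (nat_lit 2561), (nat_lit 4097), (nat_lit 805890), (nat_lit 0), (nat_lit 3073), (nat_lit 4609), (nat_lit 1052162), (nat_lit 0), (nat_lit 3585)]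

def sm_L8 : List (ℕ × List ℕ) := [((nat_lit 0), [(nat_lit 0xfedcba9876543210), (nat_lit 0xefcdab8967452301), (nat_lit 0xdcfe98ba54761032), (nat_lit 0xba98fedc32107654), (nat_lit 0x76543210fedcba98), (nat_lit 0xcdef89ab45670123), (nat_lit 0xab89efcd23016745), (nat_lit 0x67452301efcdab89), (nat_lit 0x98badcfe10325476), (nat_lit 0x54761032dcfe98ba), (nat_lit 0x32107654ba98fedc), (nat_lit 0x89abcdef01234567), (nat_lit 0x45670123cdef89ab), (nat_lit 0x23016745ab89efcd), (nat_lit 0x1032547698badcfe), (nat_lit 0x123456789abcdef)]),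
  ((nat_lit 8), [(nat_lit 0xfedcba9876543210), (nat_lit 0xefcdab8976543210), (nat_lit 0xdcfe98ba76543210), (nat_lit 0xba98fedc76543210), (nat_lit 0xcdef89ab76543210), (nat_lit 0xab89efcd76543210), (nat_lit 0x98badcfe76543210), (nat_lit 0x89abcdef76543210)]),
  ((nat_lit 4), [(nat_lit 0xfedcba9876543210), (nat_lit 0xefcdba9867453210)]),
  ((nat_lit 2), [(nat_lit 0xfedcba9876543210), (nat_lit 0xefdcab9867542310)])]

def sm_D8 : List ℕ := [(nat_lit 0), (nat_lit 513), (nat_lit 1025), (nat_lit 1537), (nat_lit 2049), (nat_lit 169986), (nat_lit 181762), (nat_lit 193538), (nat_lit 222722), (nat_lit 235522), (nat_lit 268290), (nat_lit 324098), (nat_lit 339970), (nat_lit 378882), (nat_lit 444418), (nat_lit 539650), (nat_lit 0), (nat_lit 2561), (nat_lit 4097), (nat_lit 4609), (nat_lit 833538), (nat_lit 861698), (nat_lit 922114), (nat_lit 1018370), (nat_lit 0), (nat_lit 3073), (nat_lit 0), (nat_lit 3585)]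

def sm_L9 : List (ℕ × List ℕ) := [((nat_lit 0), [(nat_lit 0xfedcba9876543210), (nat_lit 0xefcdab8967452301), (nat_lit 0xdcfe98ba54761032), (nat_lit 0xba98fedc32107654), (nat_lit 0x76543210fedcba98), (nat_lit 0xcdef89ab45670123), (nat_lit 0xab89efcd23016745), (nat_lit 0x67452301efcdab89), (nat_lit 0x98badcfe10325476), (nat_lit 0x54761032dcfe98ba), (nat_lit 0x32107654ba98fedc), (nat_lit 0x89abcdef01234567), (nat_lit 0x45670123cdef89ab), (nat_lit 0x23016745ab89efcd), (nat_lit 0x1032547698badcfe), (nat_lit 0x123456789abcdef)]),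
  ((nat_lit 8), [(nat_lit 0xfedcba9876543210), (nat_lit 0xefcdab8976543210), (nat_lit 0xdcfe98ba76543210), (nat_lit 0xba98fedc76543210), (nat_lit 0xcdef89ab76543210), (nat_lit 0xab89efcd76543210), (nat_lit 0x98badcfe76543210), (nat_lit 0x89abcdef76543210)]),
  ((nat_lit 4), [(nat_lit 0xfedcba9876543210), (nat_lit 0xefcdba9867453210), (nat_lit 0xdcfeba9854763210), (nat_lit 0xcdefba9845673210)])]

def sm_D9 : List ℕ := [(nat_lit 0), (nat_lit 513), (nat_lit 1025), (nat_lit 1537), (nat_lit 2049), (nat_lit 169986), (nat_lit 181762), (nat_lit 193538), (nat_lit 222722), (nat_lit 235522), (nat_lit 268290), (nat_lit 324098), (nat_lit 339970), (nat_lit 378882), (nat_lit 444418), (nat_lit 539650), (nat_lit 0), (nat_lit 2561), (nat_lit 3585), (nat_lit 4609), (nat_lit 833026), (nat_lit 861698), (nat_lit 922114), (nat_lit 1018370), (nat_lit 0), (nat_lit 3073), (nat_lit 4097), (nat_lit 1330178)]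

def sm_L10 : List (ℕ × List ℕ) := [((nat_lit 0), [(nat_lit 0xfedcba9876543210), (nat_lit 0xefcdab8967452301), (nat_lit 0xdcfe98ba54761032), (nat_lit 0xba98fedc32107654), (nat_lit 0x76543210fedcba98), (nat_lit 0xcdef89ab45670123), (nat_lit 0xab89efcd23016745), (nat_lit 0x67452301efcdab89), (nat_lit 0x98badcfe10325476), (nat_lit 0x54761032dcfe98ba), (nat_lit 0x32107654ba98fedc), (nat_lit 0x89abcdef01234567), (nat_lit 0x45670123cdef89ab), (nat_lit 0x23016745ab89efcd), (nat_lit 0x1032547698badcfe), (nat_lit 0x123456789abcdef)]),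
  ((nat_lit 8), [(nat_lit 0xfedcba9876543210), (nat_lit 0xefcdab8976543210), (nat_lit 0xdcfe98ba76543210), (nat_lit 0xba98fedc76543210), (nat_lit 0xcdef89ab76543210), (nat_lit 0xab89efcd76543210), (nat_lit 0x98badcfe76543210), (nat_lit 0x89abcdef76543210)]),
  ((nat_lit 4), [(nat_lit 0xfedcba9876543210), (nat_lit 0xefcdba9867453210), (nat_lit 0xdcfeba9854763210), (nat_lit 0xcdefba9845673210)]),
  ((nat_lit 2), [(nat_lit 0xfedcba9876543210), (nat_lit 0xefdcab9867542310)])]

def sm_D10 : List ℕ := [(nat_lit 0), (nat_lit 513), (nat_lit 1025), (nat_lit 1537), (nat_lit 2049), (nat_lit 197634), (nat_lit 210434), (nat_lit 223234), (nat_lit 254466), (nat_lit 268290), (nat_lit 303106), (nat_lit 361986), (nat_lit 378882), (nat_lit 419842), (nat_lit 488450), (nat_lit 587778), (nat_lit 0), (nat_lit 2561), (nat_lit 4097), (nat_lit 5121), (nat_lit 892930), (nat_lit 922626), (nat_lit 985090), (nat_lit 1084418), (nat_lit 0), (nat_lit 3073), (nat_lit 4609), (nat_lit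 1405442), (nat_lit 0), (nat_lit 3585)]

def sm_L11 : List (ℕ × List ℕ) := [((nat_lit 0), [(nat_lit 0xfedcba9876543210), (nat_lit 0xefcdab8967452301)])]

def sm_D11 : List ℕ := [(nat_lit 0), (nat_lit 513)]

def sm_L12 : List (ℕ × List ℕ) := [((nat_lit 0), [(nat_lit 0xfedcba9876543210), (nat_lit 0xefcdab8967452301)]),
  ((nat_lit 8), [(nat_lit 0xfedcba9876543210), (nat_lit 0xefcdab8976543210)]),
  ((nat_lit 4), [(nat_lit 0xfedcba9876543210), (nat_lit 0xefcdba9867453210)]),
  ((nat_lit 2), [(nat_lit 0xfedcba9876543210), (nat_lit 0xefdcab9867542310)]),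
  ((nat_lit 12), [(nat_lit 0xfedcba9876543210), (nat_lit 0xefcdba9876543210)]),
  ((nat_lit 10), [(nat_lit 0xfedcba9876543210), (nat_lit 0xefdcab9876543210)]),
  ((nat_lit 6), [(nat_lit 0xfedcba9876543210), (nat_lit 0xefdcba9867543210)])]

def sm_D12 : List ℕ := [(nat_lit 0), (nat_lit 513), (nat_lit 0), (nat_lit 1025), (nat_lit 0), (nat_lit 1537), (nat_lit 0), (nat_lit 2049), (nat_lit 0), (nat_lit 2561), (nat_lit 0), (nat_lit 3073), (nat_lit 0), (nat_lit 3585)]

def sm_L13 : List (ℕ × List ℕ) := [((nat_lit 0), [(nat_lit 0xfedcba9876543210), (nat_lit 0xefcdab8967452301), (nat_lit 0xdcfe98ba54761032), (nat_lit 0xcdef89ab45670123)]),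
  ((nat_lit 8), [(nat_lit 0xfedcba9876543210), (nat_lit 0xefcdab8976543210), (nat_lit 0xdcfe98ba76543210), (nat_lit 0xcdef89ab76543210)]),
  ((nat_lit 4), [(nat_lit 0xfedcba9876543210), (nat_lit 0xefcdba9867453210), (nat_lit 0xdcfeba9854763210), (nat_lit 0xcdefba9845673210)]),
  ((nat_lit 12), [(nat_lit 0xfedcba9876543210), (nat_lit 0xefcdba9876543210), (nat_lit 0xdcfeba9876543210), (nat_lit 0xcdefba9876543210)])]

def sm_D13 : List ℕ := [(nat_lit 0), (nat_lit 513), (nat_lit 1025), (nat_lit 173058), (nat_lit 0), (nat_lit 1537), (nat_lit 2561), (nat_lit 297474), (nat_lit 0), (nat_lit 2049), (nat_lit 3073), (nat_lit 453634), (nat_lit 0), (nat_lit 3585), (nat_lit 4097), (nat_lit 643074)]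

def sm_L14 : List (ℕ × List ℕ) := [((nat_lit 0), [(nat_lit 0xfedcba9876543210), (nat_lit 0xefcdab8967452301), (nat_lit 0xdcfe98ba54761032), (nat_lit 0xcdef89ab45670123)]),
  ((nat_lit 8), [(nat_lit 0xfedcba9876543210), (nat_lit 0xefcdab8976543210), (nat_lit 0xdcfe98ba76543210), (nat_lit 0xcdef89ab76543210)]),
  ((nat_lit 4), [(nat_lit 0xfedcba9876543210), (nat_lit 0xefcdba9867453210), (nat_lit 0xdcfeba9854763210), (nat_lit 0xcdefba9845673210)]),
  ((nat_lit 12), [(nat_lit 0xfedcba9876543210), (nat_lit 0xefcdba9876543210)])]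

def sm_D14 : List ℕ := [(nat_lit 0), (nat_lit 513), (nat_lit 1025), (nat_lit 147458), (nat_lit 0), (nat_lit 1537), (nat_lit 2561), (nat_lit 263682), (nat_lit 0), (nat_lit 2049), (nat_lit 3073), (nat_lit 411650), (nat_lit 0), (nat_lit 3585)]

def sm_L15 : List (ℕ × List ℕ) := [((nat_lit 0), [(nat_lit 0xfedcba9876543210), (nat_lit 0xefcdab8967452301), (nat_lit 0xdcfe98ba54761032), (nat_lit 0xba98fedc32107654), (nat_lit 0x76543210fedcba98), (nat_lit 0xcdef89ab45670123), (nat_lit 0xab89efcd23016745), (nat_lit 0x67452301efcdab89), (nat_lit 0x98badcfe10325476), (nat_lit 0x54761032dcfe98ba), (nat_lit 0x32107654ba98fedc), (nat_lit 0x89abcdef01234567), (nat_lit 0x45670123cdef89ab), (nat_lit 0x23016745ab89efcd), (nat_lit 0x1032547698badcfe), (nat_lit 0x123456789abcdef)]),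
  ((nat_lit 8), [(nat_lit 0xfedcba9876543210), (nat_lit 0xefcdab8976543210), (nat_lit 0xdcfe98ba76543210), (nat_lit 0xba98fedc76543210), (nat_lit 0xcdef89ab76543210), (nat_lit 0xab89efcd76543210), (nat_lit 0x98badcfe76543210), (nat_lit 0x89abcdef76543210)]),
  ((nat_lit 4), [(nat_lit 0xfedcba9876543210), (nat_lit 0xefcdba9867453210), (nat_lit 0xdcfeba9854763210), (nat_lit 0xcdefba9845673210)]),
  ((nat_lit 2), [(nat_lit 0xfedcba9876543210), (nat_lit 0xefdcab9867542310)]),
  ((nat_lit 12), [(nat_lit 0xfedcba9876543210), (nat_lit 0xefcdab9867543210)]),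
  ((nat_lit 10), [(nat_lit 0xfedcba9876543210), (nat_lit 0xfedcab9867543210)]),
  ((nat_lit 6), [(nat_lit 0xfedcba9876543210), (nat_lit 0xefdcba9867543210)])]

def sm_D15 : List ℕ := [(nat_lit 0), (nat_lit 513), (nat_lit 1025), (nat_lit 1537), (nat_lit 2049), (nat_lit 366594), (nat_lit 384514), (nat_lit 402434), (nat_lit 443906), (nat_lit 462850), (nat_lit 507906), (nat_lit 582146), (nat_lit 604162), (nat_lit 655362), (nat_lit 739330), (nat_lit 859138), (nat_lit 0), (nat_lit 2561), (nat_lit 4097), (nat_lit 5121), (nat_lit 1220610), (nat_lit 1255426), (nat_lit 1328130), (nat_lit 1442818), (nat_lit 0), (nat_lit 3073), (nat_lit 4609), (nat_lit 1809922), (nat_lit 0), (nat_lit 3585), (nat_lit 0), (nat_lit 1693867172101), (nat_lit 0), (nat_lit 172774147), (nat_lit 0), (nat_lit 6657)]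

def sm_L16 : List (ℕ × List ℕ) := [((nat_lit 0), [(nat_lit 0xfedcba9876543210), (nat_lit 0xefcdab8967452301), (nat_lit 0xdcfe98ba54761032), (nat_lit 0xba98fedc32107654), (nat_lit 0x76543210fedcba98), (nat_lit 0xcdef89ab45670123), (nat_lit 0xab89efcd23016745), (nat_lit 0x67452301efcdab89), (nat_lit 0x98badcfe10325476), (nat_lit 0x54761032dcfe98ba), (nat_lit 0x32107654ba98fedc), (nat_lit 0x89abcdef01234567), (nat_lit 0x45670123cdef89ab), (nat_lit 0x23016745ab89efcd), (nat_lit 0x1032547698badcfe), (nat_lit 0x123456789abcdef)]),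
  ((nat_lit 8), [(nat_lit 0xfedcba9876543210), (nat_lit 0xefcdab8976543210), (nat_lit 0xba98fedc76543210), (nat_lit 0xab89efcd76543210), (nat_lit 0xba98dcfe76543210), (nat_lit 0xab89cdef76543210), (nat_lit 0xfedc98ba76543210), (nat_lit 0xefcd89ab76543210)]),
  ((nat_lit 4), [(nat_lit 0xfedcba9876543210), (nat_lit 0xefcdba9867453210), (nat_lit 0xdcfeba9854763210), (nat_lit 0xcdefba9845673210)]),
  ((nat_lit 2), [(nat_lit 0xfedcba9876543210), (nat_lit 0xefdcab9867542310)]),
  ((nat_lit 12), [(nat_lit 0xfedcba9876543210), (nat_lit 0xdcfeba9876543210), (nat_lit 0xdcefba9867543210), (nat_lit 0xfecdba9867543210)]),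
  ((nat_lit 10), [(nat_lit 0xfedcba9876543210), (nat_lit 0xfedcab9867543210)]),
  ((nat_lit 6), [(nat_lit 0xfedcba9876543210), (nat_lit 0xefdcba9867543210)])]

def sm_D16 : List ℕ := [(nat_lit 0), (nat_lit 513), (nat_lit 1025), (nat_lit 1537), (nat_lit 2049), (nat_lit 406530), (nat_lit 425474), (nat_lit 444418), (nat_lit 487938), (nat_lit 507906), (nat_lit 555010), (nat_lit 632322), (nat_lit 655362), (nat_lit 708610), (nat_lit 795650), (nat_lit 919554), (nat_lit 0), (nat_lit 2561), (nat_lit 5121), (nat_lit 1258498), (nat_lit 1334274), (nat_lit 1409026), (nat_lit 1482754), (nat_lit 1561602), (nat_lit 0), (nat_lit 3073), (nat_lit 4609), (nat_lit 1896962), (nat_lit 0), (nat_lit 3585), (nat_lit 0), (nat_lit 8193), (nat_lit 2415106), (nat_lit 2516994), (nat_lit 0), (nat_lit 194533123), (nat_lit 0), (nat_lit 6657)]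

def sm_L17 : List (ℕ × List ℕ) := [((nat_lit 0), [(nat_lit 0xfedcba9876543210), (nat_lit 0xefcdab8967452301), (nat_lit 0xdcfe98ba54761032), (nat_lit 0xba98fedc32107654), (nat_lit 0x76543210fedcba98), (nat_lit 0xcdef89ab45670123), (nat_lit 0xab89efcd23016745), (nat_lit 0x67452301efcdab89), (nat_lit 0x98badcfe10325476), (nat_lit 0x54761032dcfe98ba), (nat_lit 0x32107654ba98fedc), (nat_lit 0x89abcdef01234567), (nat_lit 0x45670123cdef89ab), (nat_lit 0x23016745ab89efcd), (nat_lit 0x1032547698badcfe), (nat_lit 0x123456789abcdef)]),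
  ((nat_lit 8), [(nat_lit 0xfedcba9876543210), (nat_lit 0xefcdab8976543210), (nat_lit 0xdcfe98ba76543210), (nat_lit 0xcdef89ab76543210)]),
  ((nat_lit 4), [(nat_lit 0xfedcba9876543210), (nat_lit 0xefcdba9867453210), (nat_lit 0xdcfeba9854763210), (nat_lit 0xcdefba9845673210)]),
  ((nat_lit 2), [(nat_lit 0xfedcba9876543210), (nat_lit 0xefdcab9867542310)]),
  ((nat_lit 12), [(nat_lit 0xfedcba9876543210), (nat_lit 0xdcfeba9876543210), (nat_lit 0xdcefab9876543210), (nat_lit 0xfecdab9876543210)]),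
  ((nat_lit 10), [(nat_lit 0xfedcba9876543210), (nat_lit 0xefdcab9876543210)]),
  ((nat_lit 6), [(nat_lit 0xfedcba9876543210), (nat_lit 0xefdcba9867543210)])]

def sm_D17 : List ℕ := [(nat_lit 0), (nat_lit 513), (nat_lit 1025), (nat_lit 1537), (nat_lit 2049), (nat_lit 366594), (nat_lit 384514), (nat_lit 402434), (nat_lit 443906), (nat_lit 462850), (nat_lit 507906), (nat_lit 582146), (nat_lit 604162), (nat_lit 655362), (nat_lit 739330), (nat_lit 859138), (nat_lit 0), (nat_lit 2561), (nat_lit 4097), (nat_lit 1186818), (nat_lit 0), (nat_lit 3073), (nat_lit 4609), (nat_lit 1482242), (nat_lit 0), (nat_lit 3585), (nat_lit 0), (nat_lit 7681), (nat_lit 1943042), (nat_lit 2035202), (nat_lit 0), (nat_lit 5633), (nat_lit 0), (nat_lit 6145)]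

def sm_L18 : List (ℕ × List ℕ) := [((nat_lit 0), [(nat_lit 0xfedcba9876543210), (nat_lit 0xefcdab8967452301), (nat_lit 0xdcfe98ba54761032), (nat_lit 0xba98fedc32107654), (nat_lit 0x76543210fedcba98), (nat_lit 0xcdef89ab45670123), (nat_lit 0xab89efcd23016745), (nat_lit 0x67452301efcdab89), (nat_lit 0x98badcfe10325476), (nat_lit 0x54761032dcfe98ba), (nat_lit 0x32107654ba98fedc), (nat_lit 0x89abcdef01234567), (nat_lit 0x45670123cdef89ab), (nat_lit 0x23016745ab89efcd), (nat_lit 0x1032547698badcfe), (nat_lit 0x123456789abcdef)]),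
  ((nat_lit 8), [(nat_lit 0xfedcba9876543210), (nat_lit 0xefcdab8976543210), (nat_lit 0xdcfe98ba76543210), (nat_lit 0xcdef89ab76543210)]),
  ((nat_lit 4), [(nat_lit 0xfedcba9876543210), (nat_lit 0xefcdba9867453210), (nat_lit 0xdcfeba9854763210), (nat_lit 0xcdefba9845673210)]),
  ((nat_lit 2), [(nat_lit 0xfedcba9876543210), (nat_lit 0xefdcab9867542310)]),
  ((nat_lit 12), [(nat_lit 0xfedcba9876543210), (nat_lit 0xfecdab9876543210)]),
  ((nat_lit 10), [(nat_lit 0xfedcba9876543210), (nat_lit 0xefdcab9876543210)]),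
  ((nat_lit 6), [(nat_lit 0xfedcba9876543210), (nat_lit 0xefdcba9867543210)])]

def sm_D18 : List ℕ := [(nat_lit 0), (nat_lit 513), (nat_lit 1025), (nat_lit 1537), (nat_lit 2049), (nat_lit 328706), (nat_lit 345602), (nat_lit 362498), (nat_lit 401922), (nat_lit 419842), (nat_lit 462850), (nat_lit 534018), (nat_lit 555010), (nat_lit 604162), (nat_lit 685058), (nat_lit 800770), (nat_lit 0), (nat_lit 2561), (nat_lit 4097), (nat_lit 1118210), (nat_lit 0), (nat_lit 3073), (nat_lit 4609), (nat_lit 1405442), (nat_lit 0), (nat_lit 3585), (nat_lit 0), (nat_lit 134161155), (nat_lit 0), (nat_lit 5633), (nat_lit 0), (nat_lit 6145)]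

def sm_L19 : List (ℕ × List ℕ) := [((nat_lit 0), [(nat_lit 0xfedcba9876543210), (nat_lit 0xefcdab8967452301), (nat_lit 0xdcfe98ba54761032), (nat_lit 0xba98fedc32107654), (nat_lit 0x76543210fedcba98), (nat_lit 0xcdef89ab45670123), (nat_lit 0xab89efcd23016745), (nat_lit 0x67452301efcdab89), (nat_lit 0x98badcfe10325476), (nat_lit 0x54761032dcfe98ba), (nat_lit 0x32107654ba98fedc), (nat_lit 0x89abcdef01234567), (nat_lit 0x45670123cdef89ab), (nat_lit 0x23016745ab89efcd), (nat_lit 0x1032547698badcfe), (nat_lit 0x123456789abcdef)]),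
  ((nat_lit 8), [(nat_lit 0xfedcba9876543210), (nat_lit 0xefcdab8976543210), (nat_lit 0xdcfe98ba76543210), (nat_lit 0xba98fedc76543210), (nat_lit 0xcdef89ab76543210), (nat_lit 0xab89efcd76543210), (nat_lit 0x98badcfe76543210), (nat_lit 0x89abcdef76543210)]),
  ((nat_lit 4), [(nat_lit 0xfedcba9876543210), (nat_lit 0xefcdba9867453210)]),
  ((nat_lit 2), [(nat_lit 0xfedcba9876543210), (nat_lit 0xefdcab9867542310)]),
  ((nat_lit 12), [(nat_lit 0xfedcba9876543210), (nat_lit 0xfecdba9867543210)]),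
  ((nat_lit 10), [(nat_lit 0xfedcba9876543210), (nat_lit 0xfedcab9867543210)]),
  ((nat_lit 6), [(nat_lit 0xfedcba9876543210), (nat_lit 0xefdcba9867543210)])]

def sm_D19 : List ℕ := [(nat_lit 0), (nat_lit 513), (nat_lit 1025), (nat_lit 1537), (nat_lit 2049), (nat_lit 328706), (nat_lit 345602), (nat_lit 362498), (nat_lit 401922), (nat_lit 419842), (nat_lit 462850), (nat_lit 534018), (nat_lit 555010), (nat_lit 604162), (nat_lit 685058), (nat_lit 800770), (nat_lit 0), (nat_lit 2561), (nat_lit 4097), (nat_lit 4609), (nat_lit 1150978), (nat_lit 1184258), (nat_lit 1254914), (nat_lit 1366530), (nat_lit 0), (nat_lit 3073), (nat_lit 0), (nat_lit 3585), (nat_lit 0), (nat_lit 131400451), (nat_lit 0), (nat_lit 147924227), (nat_lit 0), (nat_lit 6145)]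

def sm_L20 : List (ℕ × List ℕ) := [((nat_lit 0), [(nat_lit 0xfedcba9876543210), (nat_lit 0xefcdab8967452301), (nat_lit 0xdcfe98ba54761032), (nat_lit 0xba98fedc32107654), (nat_lit 0x76543210fedcba98), (nat_lit 0xcdef89ab45670123), (nat_lit 0xab89efcd23016745), (nat_lit 0x67452301efcdab89), (nat_lit 0x98badcfe10325476), (nat_lit 0x54761032dcfe98ba), (nat_lit 0x32107654ba98fedc), (nat_lit 0x89abcdef01234567), (nat_lit 0x45670123cdef89ab), (nat_lit 0x23016745ab89efcd), (nat_lit 0x1032547698badcfe), (nat_lit 0x123456789abcdef)]),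
  ((nat_lit 8), [(nat_lit 0xfedcba9876543210), (nat_lit 0xefcdab8976543210)]),
  ((nat_lit 4), [(nat_lit 0xfedcba9876543210), (nat_lit 0xefcdba9867453210)]),
  ((nat_lit 2), [(nat_lit 0xfedcba9876543210), (nat_lit 0xefdcab9867542310)]),
  ((nat_lit 12), [(nat_lit 0xfedcba9876543210), (nat_lit 0xefcdba9876543210)]),
  ((nat_lit 10), [(nat_lit 0xfedcba9876543210), (nat_lit 0xefdcab9876543210)]),
  ((nat_lit 6), [(nat_lit 0xfedcba9876543210), (nat_lit 0xefdcba9867543210)])]

def sm_D20 : List ℕ := [(nat_lit 0), (nat_lit 513), (nat_lit 1025), (nat_lit 1537), (nat_lit 2049), (nat_lit 227330), (nat_lit 241154), (nat_lit 254978), (nat_lit 288258), (nat_lit 303106), (nat_lit 339970), (nat_lit 401922), (nat_lit 419842), (nat_lit 462850), (nat_lit 534530), (nat_lit 637954), (nat_lit 0), (nat_lit 2561), (nat_lit 0), (nat_lit 3073), (nat_lit 0), (nat_lit 3585), (nat_lit 0), (nat_lit 4097), (nat_lit 0), (nat_lit 4609), (nat_lit 0), (nat_lit 5121)]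

def sm_L21 : List (ℕ × List ℕ) := [((nat_lit 0), [(nat_lit 0xfedcba9876543210), (nat_lit 0xefcdab8967452301), (nat_lit 0xdcfe98ba54761032), (nat_lit 0xba98fedc32107654), (nat_lit 0x76543210fedcba98), (nat_lit 0xcdef89ab45670123), (nat_lit 0xab89efcd23016745), (nat_lit 0x67452301efcdab89), (nat_lit 0x98badcfe10325476), (nat_lit 0x54761032dcfe98ba), (nat_lit 0x32107654ba98fedc), (nat_lit 0x89abcdef01234567), (nat_lit 0x45670123cdef89ab), (nat_lit 0x23016745ab89efcd), (nat_lit 0x1032547698badcfe), (nat_lit 0x123456789abcdef)]),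
  ((nat_lit 8), [(nat_lit 0xfedcba9876543210), (nat_lit 0xefcdab8976543210), (nat_lit 0xdcfe98ba76543210), (nat_lit 0xcdef89ab76543210)]),
  ((nat_lit 4), [(nat_lit 0xfedcba9876543210), (nat_lit 0xefcdba9867453210), (nat_lit 0xdcfeba9854763210), (nat_lit 0xcdefba9845673210)]),
  ((nat_lit 12), [(nat_lit 0xfedcba9876543210), (nat_lit 0xefcdba9876543210), (nat_lit 0xdcfeba9876543210), (nat_lit 0xcdefba9876543210)])]

def sm_D21 : List ℕ := [(nat_lit 0), (nat_lit 513), (nat_lit 1025), (nat_lit 1537), (nat_lit 2049), (nat_lit 259074), (nat_lit 273922), (nat_lit 288770), (nat_lit 324098), (nat_lit 339970), (nat_lit 378882), (nat_lit 443906), (nat_lit 462850), (nat_lit 507906), (nat_lit 582658), (nat_lit 690178), (nat_lit 0), (nat_lit 2561), (nat_lit 3585), (nat_lit 986626), (nat_lit 0), (nat_lit 3073), (nat_lit 4097), (nat_lit 1257474), (nat_lit 0), (nat_lit 4609), (nat_lit 5121), (nat_lit 1561602)]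

def sm_L22 : List (ℕ × List ℕ) := [((nat_lit 0), [(nat_lit 0xfedcba9876543210), (nat_lit 0xefcdab8967452301)]),
  ((nat_lit 8), [(nat_lit 0xfedcba9876543210), (nat_lit 0xefcdab8976543210)]),
  ((nat_lit 4), [(nat_lit 0xfedcba9876543210), (nat_lit 0xefcdba9867453210)]),
  ((nat_lit 12), [(nat_lit 0xfedcba9876543210), (nat_lit 0xefcdba9876543210)])]

def sm_D22 : List ℕ := [(nat_lit 0), (nat_lit 513), (nat_lit 0), (nat_lit 1025), (nat_lit 0), (nat_lit 1537), (nat_lit 0), (nat_lit 2049)]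

def sm_L23 : List (ℕ × List ℕ) := [((nat_lit 0), [(nat_lit 0xfedcba9876543210), (nat_lit 0xefcdab8967452301), (nat_lit 0xdcfe98ba54761032), (nat_lit 0xba98fedc32107654), (nat_lit 0x76543210fedcba98), (nat_lit 0xcdef89ab45670123), (nat_lit 0xab89efcd23016745), (nat_lit 0x67452301efcdab89), (nat_lit 0x98badcfe10325476), (nat_lit 0x54761032dcfe98ba), (nat_lit 0x32107654ba98fedc), (nat_lit 0x89abcdef01234567), (nat_lit 0x45670123cdef89ab), (nat_lit 0x23016745ab89efcd), (nat_lit 0x1032547698badcfe), (nat_lit 0x123456789abcdef)]),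
  ((nat_lit 8), [(nat_lit 0xfedcba9876543210), (nat_lit 0xefcdab8976543210), (nat_lit 0xdcfe98ba76543210), (nat_lit 0xba98fedc76543210), (nat_lit 0xcdef89ab76543210), (nat_lit 0xab89efcd76543210), (nat_lit 0x98badcfe76543210), (nat_lit 0x89abcdef76543210)]),
  ((nat_lit 4), [(nat_lit 0xfedcba9876543210), (nat_lit 0xefcdba9867453210), (nat_lit 0xdcfeba9854763210), (nat_lit 0xcdefba9845673210)]),
  ((nat_lit 12), [(nat_lit 0xfedcba9876543210), (nat_lit 0xefcdba9876543210), (nat_lit 0xdcfeba9876543210), (nat_lit 0xcdefba9876543210)])]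

def sm_D23 : List ℕ := [(nat_lit 0), (nat_lit 513), (nat_lit 1025), (nat_lit 1537), (nat_lit 2049), (nat_lit 292866), (nat_lit 308738), (nat_lit 324610), (nat_lit 361986), (nat_lit 378882), (nat_lit 419842), (nat_lit 487938), (nat_lit 507906), (nat_lit 555010), (nat_lit 632834), (nat_lit 744450), (nat_lit 0), (nat_lit 2561), (nat_lit 3585), (nat_lit 4609), (nat_lit 1082882), (nat_lit 1115650), (nat_lit 1184258), (nat_lit 1292802), (nat_lit 0), (nat_lit 3073), (nat_lit 4097), (nat_lit 1641474), (nat_lit 0), (nat_lit 5121), (nat_lit 5633), (nat_lit 1987074)]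

def sm_L24 : List (ℕ × List ℕ) := [((nat_lit 0), [(nat_lit 0xfedcba9876543210), (nat_lit 0xdcfe98ba54761032), (nat_lit 0xba98fedc32107654), (nat_lit 0x76543210fedcba98), (nat_lit 0x98badcfe10325476), (nat_lit 0x54761032dcfe98ba), (nat_lit 0x32107654ba98fedc), (nat_lit 0x1032547698badcfe)]),
  ((nat_lit 8), [(nat_lit 0xfedcba9876543210), (nat_lit 0xdcfe98ba76543210), (nat_lit 0xba98fedc76543210), (nat_lit 0x98badcfe76543210)]),
  ((nat_lit 4), [(nat_lit 0xfedcba9876543210), (nat_lit 0xdcfeba9854763210)]),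
  ((nat_lit 12), [(nat_lit 0xfedcba9876543210), (nat_lit 0xdcfeba9876543210)])]

def sm_D24 : List ℕ := [(nat_lit 0), (nat_lit 513), (nat_lit 1025), (nat_lit 1537), (nat_lit 111618), (nat_lit 121346), (nat_lit 144898), (nat_lit 185858), (nat_lit 0), (nat_lit 2049), (nat_lit 3073), (nat_lit 333826), (nat_lit 0), (nat_lit 2561), (nat_lit 0), (nat_lit 3585)]

def sm_L25 : List (ℕ × List ℕ) := [((nat_lit 0), [(nat_lit 0xfedcba9876543210), (nat_lit 0xefcdab8967452301), (nat_lit 0xdcfe98ba54761032), (nat_lit 0xba98fedc32107654), (nat_lit 0x76543210fedcba98), (nat_lit 0xcdef89ab45670123), (nat_lit 0xab89efcd23016745), (nat_lit 0x67452301efcdab89), (nat_lit 0x98badcfe10325476), (nat_lit 0x54761032dcfe98ba), (nat_lit 0x32107654ba98fedc), (nat_lit 0x89abcdef01234567), (nat_lit 0x45670123cdef89ab), (nat_lit 0x23016745ab89efcd), (nat_lit 0x1032547698badcfe), (nat_lit 0x123456789abcdef)]),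
  ((nat_lit 8), [(nat_lit 0xfedcba9876543210), (nat_lit 0xefcdab8976543210), (nat_lit 0xdcfe98ba76543210), (nat_lit 0xba98fedc76543210), (nat_lit 0xcdef89ab76543210), (nat_lit 0xab89efcd76543210), (nat_lit 0x98badcfe76543210), (nat_lit 0x89abcdef76543210)]),
  ((nat_lit 4), [(nat_lit 0xfedcba9876543210), (nat_lit 0xefcdba9867453210), (nat_lit 0xdcfeba9854763210), (nat_lit 0xcdefba9845673210)]),
  ((nat_lit 2), [(nat_lit 0xfedcba9876543210), (nat_lit 0xefdcab9867542310)]),
  ((nat_lit 12), [(nat_lit 0xfedcba9876543210), (nat_lit 0xefcdba9876543210)])]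

def sm_D25 : List ℕ := [(nat_lit 0), (nat_lit 513), (nat_lit 1025), (nat_lit 1537), (nat_lit 2049), (nat_lit 259074), (nat_lit 273922), (nat_lit 288770), (nat_lit 324098), (nat_lit 339970), (nat_lit 378882), (nat_lit 443906), (nat_lit 462850), (nat_lit 507906), (nat_lit 582658), (nat_lit 690178), (nat_lit 0), (nat_lit 2561), (nat_lit 4097), (nat_lit 5121), (nat_lit 1017858), (nat_lit 1049602), (nat_lit 1116162), (nat_lit 1221634), (nat_lit 0), (nat_lit 3073), (nat_lit 4609), (nat_lit 1561090), (nat_lit 0), (nat_lit 3585), (nat_lit 0), (nat_lit 5633)]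

def sm_L26 : List (ℕ × List ℕ) := [((nat_lit 0), [(nat_lit 0xfedcba9876543210), (nat_lit 0xefcdab8967452301), (nat_lit 0xdcfe98ba54761032), (nat_lit 0xba98fedc32107654), (nat_lit 0x76543210fedcba98), (nat_lit 0xcdef89ab45670123), (nat_lit 0xab89efcd23016745), (nat_lit 0x67452301efcdab89), (nat_lit 0x98badcfe10325476), (nat_lit 0x54761032dcfe98ba), (nat_lit 0x32107654ba98fedc), (nat_lit 0x89abcdef01234567), (nat_lit 0x45670123cdef89ab), (nat_lit 0x23016745ab89efcd), (nat_lit 0x1032547698badcfe), (nat_lit 0x123456789abcdef)]),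
  ((nat_lit 8), [(nat_lit 0xfedcba9876543210), (nat_lit 0xefcdab8976543210), (nat_lit 0xdcfe98ba76543210), (nat_lit 0xcdef89ab76543210)]),
  ((nat_lit 4), [(nat_lit 0xfedcba9876543210), (nat_lit 0xefcdba9867453210), (nat_lit 0xdcfeba9854763210), (nat_lit 0xcdefba9845673210)]),
  ((nat_lit 12), [(nat_lit 0xfedcba9876543210), (nat_lit 0xefcdba9876543210)])]

def sm_D26 : List ℕ := [(nat_lit 0), (nat_lit 513), (nat_lit 1025), (nat_lit 1537), (nat_lit 2049), (nat_lit 227330), (nat_lit 241154), (nat_lit 254978), (nat_lit 288258), (nat_lit 303106), (nat_lit 339970), (nat_lit 401922), (nat_lit 419842), (nat_lit 462850), (nat_lit 534530), (nat_lit 637954), (nat_lit 0), (nat_lit 2561), (nat_lit 3585), (nat_lit 924162), (nat_lit 0), (nat_lit 3073), (nat_lit 4097), (nat_lit 1186818), (nat_lit 0), (nat_lit 4609)]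

def sm_L27 : List (ℕ × List ℕ) := [((nat_lit 0), [(nat_lit 0xfedcba9876543210), (nat_lit 0xefcdab8967452301)]),
  ((nat_lit 8), [(nat_lit 0xfedcba9876543210), (nat_lit 0xefcdab8976543210)])]

def sm_D27 : List ℕ := [(nat_lit 0), (nat_lit 513), (nat_lit 0), (nat_lit 1025)]

def sm_L28 : List (ℕ × List ℕ) := [((nat_lit 0), [(nat_lit 0xfedcba9876543210), (nat_lit 0xefcdab8967452301)]),
  ((nat_lit 8), [(nat_lit 0xfedcba9876543210), (nat_lit 0xefcdab8976543210)]),
  ((nat_lit 4), [(nat_lit 0xfedcba9876543210), (nat_lit 0xefcdba9867453210)])]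

def sm_D28 : List ℕ := [(nat_lit 0), (nat_lit 513), (nat_lit 0), (nat_lit 1025), (nat_lit 0), (nat_lit 1537)]

def sm_L29 : List (ℕ × List ℕ) := [((nat_lit 0), [(nat_lit 0xfedcba9876543210), (nat_lit 0xba98fedc32107654), (nat_lit 0xdcfe98ba54761032), (nat_lit 0xefcdab8967452301), (nat_lit 0x98badcfe10325476), (nat_lit 0xab89efcd23016745), (nat_lit 0xcdef89ab45670123), (nat_lit 0x89abcdef01234567)])]

def sm_D29 : List ℕ := [(nat_lit 0), (nat_lit 513), (nat_lit 1025), (nat_lit 1537), (nat_lit 41986), (nat_lit 47618), (nat_lit 62978), (nat_lit 91650)]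

def sm_L30 : List (ℕ × List ℕ) := [((nat_lit 0), [(nat_lit 0xfedcba9876543210), (nat_lit 0xefcdab8967452301)]),
  ((nat_lit 8), [(nat_lit 0xfedcba9876543210), (nat_lit 0xefcdab8976543210)]),
  ((nat_lit 4), [(nat_lit 0xfedcba9876543210), (nat_lit 0xefcdba9867453210)]),
  ((nat_lit 2), [(nat_lit 0xfedcba9876543210), (nat_lit 0xefdcab9867542310)]),
  ((nat_lit 12), [(nat_lit 0xfedcba9876543210), (nat_lit 0xefcdba9876543210)]),
  ((nat_lit 10), [(nat_lit 0xfedcba9876543210), (nat_lit 0xefdcab9876543210)])]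

def sm_D30 : List ℕ := [(nat_lit 0), (nat_lit 513), (nat_lit 0), (nat_lit 1025), (nat_lit 0), (nat_lit 1537), (nat_lit 0), (nat_lit 2049), (nat_lit 0), (nat_lit 2561), (nat_lit 0), (nat_lit 3073)]

def sm_L31 : List (ℕ × List ℕ) := [((nat_lit 0), [(nat_lit 0xfedcba9876543210), (nat_lit 0xefcdab8967452301), (nat_lit 0xdcfe98ba54761032), (nat_lit 0xba98fedc32107654), (nat_lit 0x76543210fedcba98), (nat_lit 0xcdef89ab45670123), (nat_lit 0xab89efcd23016745), (nat_lit 0x67452301efcdab89), (nat_lit 0x98badcfe10325476), (nat_lit 0x54761032dcfe98ba), (nat_lit 0x32107654ba98fedc), (nat_lit 0x89abcdef01234567), (nat_lit 0x45670123cdef89ab), (nat_lit 0x23016745ab89efcd), (nat_lit 0x1032547698badcfe), (nat_lit 0x123456789abcdef)]),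
  ((nat_lit 8), [(nat_lit 0xfedcba9876543210), (nat_lit 0xefcdab8976543210), (nat_lit 0xfedc7654ba983210), (nat_lit 0xefcd6745ba983210), (nat_lit 0xdfce9b8a75643120), (nat_lit 0xfeba7632dc985410), (nat_lit 0xdfce5746b9a83120), (nat_lit 0xefab6723dc985410), (nat_lit 0xcedf8a9b75643120), (nat_lit 0xbfae9d8c73625140), (nat_lit 0xfdb97531eca86420), (nat_lit 0xcedf4657b9a83120), (nat_lit 0xaebf8c9d73625140), (nat_lit 0x9dbf8cae73516240), (nat_lit 0x8cae9dbf73516240)]),
  ((nat_lit 4), [(nat_lit 0xfedcba9876543210), (nat_lit 0xfebadc9876325410), (nat_lit 0xefcdba9867453210), (nat_lit 0xfdb9eca875316420), (nat_lit 0xefabdc9867235410), (nat_lit 0xdfceb9a857463120), (nat_lit 0xe7c53a186f4db290), (nat_lit 0x7531eca8fdb96420), (nat_lit 0xe7a35c186f2bd490), (nat_lit 0xcedfb9a846573120), (nat_lit 0xf6d43a187e5cb290), (nat_lit 0xd7c639285f4eb1a0), (nat_lit 0x7632dc98feba5410), (nat_lit 0xce5731a846dfb920)]),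
  ((nat_lit 2), [(nat_lit 0xfedcba9876543210), (nat_lit 0xfdecb9a875643120), (nat_lit 0x75ec31a8fd64b920), (nat_lit 0xb9ecfda831647520), (nat_lit 0x9becdfa813645720), (nat_lit 0x76dc3298fe54ba10), (nat_lit 0x31ec75a8b964fd20), (nat_lit 0x13ec57a89b64df20), (nat_lit 0xbadcfe9832547610), (nat_lit 0xdfec9ba857641320), (nat_lit 0x32dc7698ba54fe10), (nat_lit 0x57ec13a8df649b20)]),
  ((nat_lit 1), [(nat_lit 0xfedcba9876543210), (nat_lit 0x7e5c3a18f6d4b290), (nat_lit 0xbe9cfad836147250), (nat_lit 0x9ebcdaf816345270), (nat_lit 0x3e1c7a58b694f2d0), (nat_lit 0x1e3c5a7896b4d2f0), (nat_lit 0xdefc9ab856741230), (nat_lit 0x5e7c1a38d6f492b0)])]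

def sm_D31 : List ℕ := [(nat_lit 0), (nat_lit 513), (nat_lit 1025), (nat_lit 1537), (nat_lit 2049), (nat_lit 292866), (nat_lit 308738), (nat_lit 324610), (nat_lit 361986), (nat_lit 378882), (nat_lit 419842), (nat_lit 487938), (nat_lit 507906), (nat_lit 555010), (nat_lit 632834), (nat_lit 744450), (nat_lit 0), (nat_lit 2561), (nat_lit 5633), (nat_lit 1053186), (nat_lit 1085954), (nat_lit 1153026), (nat_lit 1223170), (nat_lit 1256450), (nat_lit 1325570), (nat_lit 1363970), (nat_lit 1440258), (nat_lit 1601026), (nat_lit 1640450), (nat_lit 1856002), (nat_lit 1939970), (nat_lit 0), (nat_lit 6145), (nat_lit 145026307), (nat_lit 2267650), (nat_lit 2364418), (nat_lit 2413058), (nat_lit 25729321220), (nat_lit 27844675844), (nat_lit 30087981316), (nat_lit 32440023300), (nat_lit 34953616644), (nat_lit 2931202), (nat_lit 3041794), (nat_lit 43404404996), (nat_lit 0), (nat_lit 6657), (nat_lit 56057960708), (nat_lit 58958093060), (nat_lit 61891292420), (nat_lit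 4004354), (nat_lit 69041581828), (nat_lit 72315178244), (nat_lit 4260354), (nat_lit 80362876164), (nat_lit 4599298), (nat_lit 91863108868), (nat_lit 0), (nat_lit 383109379), (nat_lit 535772931), (nat_lit 606539011), (nat_lit 124981503748), (nat_lit 130099031300), (nat_lit 137163693316), (nat_lit 146456202500)]

def sm_L32 : List (ℕ × List ℕ) := [((nat_lit 0), [(nat_lit 0xfedcba9876543210), (nat_lit 0xefcdab8967452301), (nat_lit 0xdcfe98ba54761032), (nat_lit 0xba98fedc32107654), (nat_lit 0x76543210fedcba98), (nat_lit 0xcdef89ab45670123), (nat_lit 0xab89efcd23016745), (nat_lit 0x67452301efcdab89), (nat_lit 0x98badcfe10325476), (nat_lit 0x54761032dcfe98ba), (nat_lit 0x32107654ba98fedc), (nat_lit 0x89abcdef01234567), (nat_lit 0x45670123cdef89ab), (nat_lit 0x23016745ab89efcd), (nat_lit 0x1032547698badcfe), (nat_lit 0x123456789abcdef)]),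
  ((nat_lit 8), [(nat_lit 0xfedcba9876543210), (nat_lit 0xefcdab8976543210), (nat_lit 0xfedc7654ba983210), (nat_lit 0xdcfe98ba76543210), (nat_lit 0xefcd6745ba983210), (nat_lit 0xcdef89ab76543210), (nat_lit 0xfeba7632dc985410), (nat_lit 0xdcfe5476ba983210), (nat_lit 0xbafe98dc76325410), (nat_lit 0xefab6723dc985410), (nat_lit 0xcdef4567ba983210), (nat_lit 0xabef89cd76325410), (nat_lit 0x98dcbafe76325410), (nat_lit 0x89cdabef76325410)]),
  ((nat_lit 4), [(nat_lit 0xfedcba9876543210), (nat_lit 0xfebadc9876325410), (nat_lit 0xefcdba9867453210), (nat_lit 0x7654ba98fedc3210), (nat_lit 0xdcfeba9854763210), (nat_lit 0xefabdc9867235410), (nat_lit 0x6745ba98efcd3210), (nat_lit 0xcdefba9845673210), (nat_lit 0x7632dc98feba5410), (nat_lit 0x5476ba98dcfe3210), (nat_lit 0x6723dc98efab5410), (nat_lit 0x4567ba98cdef3210)]),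
  ((nat_lit 2), [(nat_lit 0xfedcba9876543210), (nat_lit 0xbadcfe9832547610), (nat_lit 0xabdcef9823546710), (nat_lit 0x32dc7698ba54fe10), (nat_lit 0xefdcab9867542310), (nat_lit 0x76dc3298fe54ba10), (nat_lit 0x67dc2398ef54ab10), (nat_lit 0x23dc6798ab54ef10)])]

def sm_D32 : List ℕ := [(nat_lit 0), (nat_lit 513), (nat_lit 1025), (nat_lit 1537), (nat_lit 2049), (nat_lit 259074), (nat_lit 273922), (nat_lit 288770), (nat_lit 324098), (nat_lit 339970), (nat_lit 378882), (nat_lit 443906), (nat_lit 462850), (nat_lit 507906), (nat_lit 582658), (nat_lit 690178), (nat_lit 0), (nat_lit 2561), (nat_lit 5633), (nat_lit 4097), (nat_lit 1019394), (nat_lit 1048578), (nat_lit 1117186), (nat_lit 1185282), (nat_lit 1218562), (nat_lit 1290242), (nat_lit 1363458), (nat_lit 1398786), (nat_lit 1557506), (nat_lit 1724418), (nat_lit 0), (nat_lit 6145), (nat_lit 128809731), (nat_lit 152069891), (nat_lit 140646147), (nat_lit 2217986), (nat_lit 21857586948), (nat_lit 23199145732),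 (nat_lit 2408450), (nat_lit 26664910596), (nat_lit 2665474), (nat_lit 31789244164), (nat_lit 0), (nat_lit 302571267), (nat_lit 333423875), (nat_lit 358992131), (nat_lit 47466218756), (nat_lit 49929365764), (nat_lit 53390756100), (nat_lit 58005457156)]

def sm_L33 : List (ℕ × List ℕ) := [((nat_lit 8), [(nat_lit 0xfedcba9876543210), (nat_lit 0xefcdab8976543210), (nat_lit 0xdcfe98ba76543210), (nat_lit 0xba98fedc76543210), (nat_lit 0xfedc7654ba983210), (nat_lit 0xcdef89ab76543210), (nat_lit 0xab89efcd76543210), (nat_lit 0xefcd6745ba983210), (nat_lit 0x98badcfe76543210), (nat_lit 0xdcfe5476ba983210), (nat_lit 0xfeba7632dc985410), (nat_lit 0x89abcdef76543210), (nat_lit 0xcdef4567ba983210), (nat_lit 0xefab6723dc985410), (nat_lit 0xfdb97531eca86420)]),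
  ((nat_lit 4), [(nat_lit 0xfedcba9876543210), (nat_lit 0xefcdba9867453210), (nat_lit 0xfebadc9876325410), (nat_lit 0x7654ba98fedc3210), (nat_lit 0xefabdc9867235410), (nat_lit 0xdfceb9a857463120), (nat_lit 0x6745ba98efcd3210), (nat_lit 0xfdb9eca875316420), (nat_lit 0x7632dc98feba5410), (nat_lit 0xcedfb9a846573120), (nat_lit 0x5746b9a8dfce3120), (nat_lit 0x6723dc98efab5410), (nat_lit 0x7531eca8fdb96420), (nat_lit 0x4657b9a8cedf3120)]),
  ((nat_lit 2), [(nat_lit 0xfedcba9876543210), (nat_lit 0xfdecb9a875643120), (nat_lit 0xefdcab9867542310), (nat_lit 0xb9ecfda831647520), (nat_lit 0x31ec75a8b964fd20), (nat_lit 0xeb9cafd863142750), (nat_lit 0xe31ca7586b942fd0), (nat_lit 0xbadcfe9832547610), (nat_lit 0x75ec31a8fd64b920), (nat_lit 0x32dc7698ba54fe10), (nat_lit 0xe75ca3186fd42b90), (nat_lit 0x76dc3298fe54ba10)]),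
  ((nat_lit 1), [(nat_lit 0xfedcba9876543210), (nat_lit 0xbe9cfad836147250), (nat_lit 0x3e1c7a58b694f2d0), (nat_lit 0xdefc9ab856741230), (nat_lit 0x7e5c3a18f6d4b290), (nat_lit 0x9ebcdaf816345270), (nat_lit 0x1e3c5a7896b4d2f0), (nat_lit 0x5e7c1a38d6f492b0)])]

def sm_D33 : List ℕ := [(nat_lit 0), (nat_lit 513), (nat_lit 2049), (nat_lit 3073), (nat_lit 3585), (nat_lit 171010), (nat_lit 183298), (nat_lit 195074), (nat_lit 224258), (nat_lit 237058), (nat_lit 290818), (nat_lit 325634), (nat_lit 341506), (nat_lit 404482), (nat_lit 496130), (nat_lit 0), (nat_lit 1025), (nat_lit 4097), (nat_lit 21080835), (nat_lit 776194), (nat_lit 803330), (nat_lit 3198437124), (nat_lit 889346), (nat_lit 950274), (nat_lit 1045506), (nat_lit 5301352196), (nat_lit 1146882), (nat_lit 1254914), (nat_lit 7680418564), (nat_lit 0), (nat_lit 4609), (nat_lit 93050627), (nat_lit 12243747588), (nat_lit 13159333636), (nat_lit 14420863748), (nat_lit 15448706820), (nat_lit 1982978),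 (nat_lit 18019622660), (nat_lit 2118146), (nat_lit 21375696644), (nat_lit 2411010), (nat_lit 0), (nat_lit 161090307), (nat_lit 201801475), (nat_lit 245369603), (nat_lit 35653844740), (nat_lit 37668664068), (nat_lit 40476536580), (nat_lit 44237855492)]

def sm_L34 : List (ℕ × List ℕ) := [((nat_lit 0), [(nat_lit 0xfedcba9876543210), (nat_lit 0x67453210efcdba98), (nat_lit 0xab89efcd32107654), (nat_lit 0xdcfe98ba54761032), (nat_lit 0xefcdab8967452301), (nat_lit 0x23017654ba98efcd), (nat_lit 0x45671032cdef98ba), (nat_lit 0x76542301fedcab89), (nat_lit 0x89abcdef10325476), (nat_lit 0xba98fedc23016745), (nat_lit 0xcdef89ab45670123), (nat_lit 0x123547698bacdef), (nat_lit 0x32106745ab89fedc), (nat_lit 0x54760123dcfe89ab), (nat_lit 0x98badcfe01234567), (nat_lit 0x1032456789abdcfe)])]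

def sm_D34 : List ℕ := [(nat_lit 0), (nat_lit 513), (nat_lit 1025), (nat_lit 1537), (nat_lit 2049), (nat_lit 62466), (nat_lit 69122), (nat_lit 75778), (nat_lit 94722), (nat_lit 102402), (nat_lit 124930), (nat_lit 165378), (nat_lit 176130), (nat_lit 204802), (nat_lit 254978), (nat_lit 329730)]

def sm_L35 : List (ℕ × List ℕ) := [((nat_lit 0), [(nat_lit 0xfedcba9876543210), (nat_lit 0xab98efdc23106754), (nat_lit 0xcdef98ba45671032), (nat_lit 0xefcdab8967452301), (nat_lit 0x89badcef01325467), (nat_lit 0xba89fecd32017645), (nat_lit 0xdcfe89ab54760123), (nat_lit 0x98abcdfe10234576)]),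
  ((nat_lit 8), [(nat_lit 0xfedcba9876543210), (nat_lit 0xefcdab8976543210)])]

def sm_D35 : List ℕ := [(nat_lit 0), (nat_lit 513), (nat_lit 1025), (nat_lit 2049), (nat_lit 56322), (nat_lit 63490), (nat_lit 80898), (nat_lit 112642), (nat_lit 0), (nat_lit 1537)]

def sm_L36 : List (ℕ × List ℕ) := [((nat_lit 0), [(nat_lit 0xfedcba9876543210), (nat_lit 0xefcdab8967452301)]),
  ((nat_lit 8), [(nat_lit 0xfedcba9876543210), (nat_lit 0xefcdab8976543210)]),
  ((nat_lit 4), [(nat_lit 0xfedcba9876543210), (nat_lit 0xefcdba9867453210)]),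
  ((nat_lit 2), [(nat_lit 0xfedcba9876543210), (nat_lit 0xefdcab9867542310)]),
  ((nat_lit 12), [(nat_lit 0xfedcba9876543210), (nat_lit 0xefcdba9876543210)]),
  ((nat_lit 10), [(nat_lit 0xfedcba9876543210), (nat_lit 0xefdcab9876543210)]),
  ((nat_lit 6), [(nat_lit 0xfedcba9876543210), (nat_lit 0xefdcba9867543210)]),
  ((nat_lit 14), [(nat_lit 0xfedcba9876543210), (nat_lit 0xefdcba9876543210)])]

def sm_D36 : List ℕ := [(nat_lit 0), (nat_lit 513), (nat_lit 0), (nat_lit 1025), (nat_lit 0), (nat_lit 1537), (nat_lit 0), (nat_lit 2049), (nat_lit 0), (nat_lit 2561), (nat_lit 0), (nat_lit 3073), (nat_lit 0), (nat_lit 3585), (nat_lit 0), (nat_lit 4609)]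

def sm_L37 : List (ℕ × List ℕ) := [((nat_lit 0), [(nat_lit 0xfedcba9876543210), (nat_lit 0xefcdab8967452301), (nat_lit 0xdcfe98ba54761032), (nat_lit 0xba98fedc32107654), (nat_lit 0x76543210fedcba98), (nat_lit 0xcdef89ab45670123), (nat_lit 0xab89efcd23016745), (nat_lit 0x67452301efcdab89), (nat_lit 0x98badcfe10325476), (nat_lit 0x54761032dcfe98ba), (nat_lit 0x32107654ba98fedc), (nat_lit 0x89abcdef01234567), (nat_lit 0x45670123cdef89ab), (nat_lit 0x23016745ab89efcd), (nat_lit 0x1032547698badcfe), (nat_lit 0x123456789abcdef)]),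
  ((nat_lit 8), [(nat_lit 0xfedcba9876543210), (nat_lit 0xefcdab8976543210), (nat_lit 0xba98fedc76543210), (nat_lit 0xab89efcd76543210), (nat_lit 0xba98dcfe76543210), (nat_lit 0xab89cdef76543210), (nat_lit 0xfedc98ba76543210), (nat_lit 0xefcd89ab76543210)]),
  ((nat_lit 4), [(nat_lit 0xfedcba9876543210), (nat_lit 0xefcdba9867453210), (nat_lit 0xdcfeba9854763210), (nat_lit 0xcdefba9845673210)]),
  ((nat_lit 2), [(nat_lit 0xfedcba9876543210), (nat_lit 0xefdcab9867542310)]),
  ((nat_lit 12), [(nat_lit 0xfedcba9876543210), (nat_lit 0xdcfeba9876543210), (nat_lit 0xdcefba9867543210), (nat_lit 0xfecdba9867543210)]),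
  ((nat_lit 10), [(nat_lit 0xfedcba9876543210), (nat_lit 0xfedcab9867543210)]),
  ((nat_lit 6), [(nat_lit 0xfedcba9876543210), (nat_lit 0xefdcba9867543210)]),
  ((nat_lit 14), [(nat_lit 0xfedcba9876543210), (nat_lit 0xefdcba9876543210)])]

def sm_D37 : List ℕ := [(nat_lit 0), (nat_lit 513), (nat_lit 1025), (nat_lit 1537), (nat_lit 2049), (nat_lit 448514), (nat_lit 468482), (nat_lit 488450), (nat_lit 534018), (nat_lit 555010), (nat_lit 604162), (nat_lit 684546), (nat_lit 708610), (nat_lit 763906), (nat_lit 854018), (nat_lit 982018), (nat_lit 0), (nat_lit 2561), (nat_lit 5121), (nat_lit 1331202), (nat_lit 1409026), (nat_lit 1485826), (nat_lit 1561602), (nat_lit 1642498), (nat_lit 0), (nat_lit 3073), (nat_lit 4609), (nat_lit 1986050), (nat_lit 0), (nat_lit 3585), (nat_lit 0), (nat_lit 8193), (nat_lit 2515458), (nat_lit 2619394), (nat_lit 0), (nat_lit 207826179), (nat_lit 0), (nat_lit 6657), (nat_lit 0), (nat_lit 8705)]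

def sm_L38 : List (ℕ × List ℕ) := [((nat_lit 0), [(nat_lit 0xfedcba9876543210), (nat_lit 0xefcdab8967452301), (nat_lit 0xdcfe98ba54761032), (nat_lit 0xcdef89ab45670123)]),
  ((nat_lit 8), [(nat_lit 0xfedcba9876543210), (nat_lit 0xefcdab8976543210), (nat_lit 0xdcfe98ba76543210), (nat_lit 0xcdef89ab76543210)]),
  ((nat_lit 4), [(nat_lit 0xfedcba9876543210), (nat_lit 0xefcdba9867453210), (nat_lit 0xdcfeba9854763210), (nat_lit 0xcdefba9845673210)]),
  ((nat_lit 2), [(nat_lit 0xfedcba9876543210), (nat_lit 0xefdcab9867542310)]),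
  ((nat_lit 12), [(nat_lit 0xfedcba9876543210), (nat_lit 0xdcfeba9876543210), (nat_lit 0xdcefab9876543210), (nat_lit 0xfecdab9876543210)]),
  ((nat_lit 10), [(nat_lit 0xfedcba9876543210), (nat_lit 0xefdcab9876543210)]),
  ((nat_lit 6), [(nat_lit 0xfedcba9876543210), (nat_lit 0xefdcba9867543210)]),
  ((nat_lit 14), [(nat_lit 0xfedcba9876543210), (nat_lit 0xefdcba9876543210)])]

def sm_D38 : List ℕ := [(nat_lit 0), (nat_lit 513), (nat_lit 1025), (nat_lit 295938), (nat_lit 0), (nat_lit 1537), (nat_lit 3073), (nat_lit 453634), (nat_lit 0), (nat_lit 2049), (nat_lit 3585), (nat_lit 642562), (nat_lit 0), (nat_lit 2561), (nat_lit 0), (nat_lit 5633), (nat_lit 956930), (nat_lit 1021442), (nat_lit 0), (nat_lit 4609), (nat_lit 0), (nat_lit 5121), (nat_lit 0), (nat_lit 6145)]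

def sm_L39 : List (ℕ × List ℕ) := [((nat_lit 0), [(nat_lit 0xfedcba9876543210), (nat_lit 0xefcdab8967452301), (nat_lit 0xdcfe98ba54761032), (nat_lit 0xba98fedc32107654), (nat_lit 0x76543210fedcba98), (nat_lit 0xcdef89ab45670123), (nat_lit 0xab89efcd23016745), (nat_lit 0x67452301efcdab89), (nat_lit 0x98badcfe10325476), (nat_lit 0x54761032dcfe98ba), (nat_lit 0x32107654ba98fedc), (nat_lit 0x89abcdef01234567), (nat_lit 0x45670123cdef89ab), (nat_lit 0x23016745ab89efcd), (nat_lit 0x1032547698badcfe), (nat_lit 0x123456789abcdef)]),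
  ((nat_lit 8), [(nat_lit 0xfedcba9876543210), (nat_lit 0xefcdab8976543210), (nat_lit 0xdcfe98ba76543210), (nat_lit 0xcdef89ab76543210)]),
  ((nat_lit 4), [(nat_lit 0xfedcba9876543210), (nat_lit 0xefcdba9867453210), (nat_lit 0xdcfeba9854763210), (nat_lit 0xcdefba9845673210)]),
  ((nat_lit 2), [(nat_lit 0xfedcba9876543210), (nat_lit 0xefdcab9867542310)]),
  ((nat_lit 12), [(nat_lit 0xfedcba9876543210), (nat_lit 0xdcfeba9876543210), (nat_lit 0xdcefab9876543210), (nat_lit 0xfecdab9876543210)]),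
  ((nat_lit 10), [(nat_lit 0xfedcba9876543210), (nat_lit 0xefdcab9876543210)]),
  ((nat_lit 6), [(nat_lit 0xfedcba9876543210), (nat_lit 0xefdcba9867543210)]),
  ((nat_lit 14), [(nat_lit 0xfedcba9876543210), (nat_lit 0xefdcba9876543210)])]

def sm_D39 : List ℕ := [(nat_lit 0), (nat_lit 513), (nat_lit 1025), (nat_lit 1537), (nat_lit 2049), (nat_lit 406530), (nat_lit 425474), (nat_lit 444418), (nat_lit 487938), (nat_lit 507906), (nat_lit 555010), (nat_lit 632322), (nat_lit 655362), (nat_lit 708610), (nat_lit 795650), (nat_lit 919554), (nat_lit 0), (nat_lit 2561), (nat_lit 4097), (nat_lit 1257474), (nat_lit 0), (nat_lit 3073), (nat_lit 4609), (nat_lit 1561090), (nat_lit 0), (nat_lit 3585), (nat_lit 0), (nat_lit 7681), (nat_lit 2033154), (nat_lit 2127362), (nat_lit 0), (nat_lit 5633), (nat_lit 0), (nat_lit 6145), (nat_lit 0), (nat_lit 8193)]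

def sm_L40 : List (ℕ × List ℕ) := [((nat_lit 0), [(nat_lit 0xfedcba9876543210), (nat_lit 0xefcdab8967452301), (nat_lit 0xdcfe98ba54761032), (nat_lit 0xba98fedc32107654), (nat_lit 0x76543210fedcba98), (nat_lit 0xcdef89ab45670123), (nat_lit 0xab89efcd23016745), (nat_lit 0x67452301efcdab89), (nat_lit 0x98badcfe10325476), (nat_lit 0x54761032dcfe98ba), (nat_lit 0x32107654ba98fedc), (nat_lit 0x89abcdef01234567), (nat_lit 0x45670123cdef89ab), (nat_lit 0x23016745ab89efcd), (nat_lit 0x1032547698badcfe), (nat_lit 0x123456789abcdef)]),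
  ((nat_lit 8), [(nat_lit 0xfedcba9876543210), (nat_lit 0xefcdab8976543210), (nat_lit 0xdcfe98ba76543210), (nat_lit 0xba98fedc76543210), (nat_lit 0xcdef89ab76543210), (nat_lit 0xab89efcd76543210), (nat_lit 0x98badcfe76543210), (nat_lit 0x89abcdef76543210)]),
  ((nat_lit 4), [(nat_lit 0xfedcba9876543210), (nat_lit 0xefcdba9867453210)]),
  ((nat_lit 2), [(nat_lit 0xfedcba9876543210), (nat_lit 0xefdcab9867542310)]),
  ((nat_lit 12), [(nat_lit 0xfedcba9876543210), (nat_lit 0xfecdba9867543210)]),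
  ((nat_lit 10), [(nat_lit 0xfedcba9876543210), (nat_lit 0xfedcab9867543210)]),
  ((nat_lit 6), [(nat_lit 0xfedcba9876543210), (nat_lit 0xefdcba9867543210)]),
  ((nat_lit 14), [(nat_lit 0xfedcba9876543210), (nat_lit 0xefdcba9876543210)])]

def sm_D40 : List ℕ := [(nat_lit 0), (nat_lit 513), (nat_lit 1025), (nat_lit 1537), (nat_lit 2049), (nat_lit 366594), (nat_lit 384514), (nat_lit 402434), (nat_lit 443906), (nat_lit 462850), (nat_lit 507906), (nat_lit 582146), (nat_lit 604162), (nat_lit 655362), (nat_lit 739330), (nat_lit 859138), (nat_lit 0), (nat_lit 2561), (nat_lit 4097), (nat_lit 4609), (nat_lit 1220610), (nat_lit 1254914), (nat_lit 1327618), (nat_lit 1442306), (nat_lit 0), (nat_lit 3073), (nat_lit 0), (nat_lit 3585), (nat_lit 0), (nat_lit 141575427), (nat_lit 0), (nat_lit 158936835), (nat_lit 0), (nat_lit 6145), (nat_lit 0), (nat_lit 7681)]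

def sm_L41 : List (ℕ × List ℕ) := [((nat_lit 0), [(nat_lit 0xfedcba9876543210), (nat_lit 0xefcdab8967452301), (nat_lit 0xdcfe98ba54761032), (nat_lit 0xba98fedc32107654), (nat_lit 0x76543210fedcba98), (nat_lit 0xcdef89ab45670123), (nat_lit 0xab89efcd23016745), (nat_lit 0x67452301efcdab89), (nat_lit 0x98badcfe10325476), (nat_lit 0x54761032dcfe98ba), (nat_lit 0x32107654ba98fedc), (nat_lit 0x89abcdef01234567), (nat_lit 0x45670123cdef89ab), (nat_lit 0x23016745ab89efcd), (nat_lit 0x1032547698badcfe), (nat_lit 0x123456789abcdef)]),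
  ((nat_lit 8), [(nat_lit 0xfedcba9876543210), (nat_lit 0xefcdab8976543210)]),
  ((nat_lit 4), [(nat_lit 0xfedcba9876543210), (nat_lit 0xefcdba9867453210)]),
  ((nat_lit 2), [(nat_lit 0xfedcba9876543210), (nat_lit 0xefdcab9867542310)]),
  ((nat_lit 12), [(nat_lit 0xfedcba9876543210), (nat_lit 0xefcdba9876543210)]),
  ((nat_lit 10), [(nat_lit 0xfedcba9876543210), (nat_lit 0xefdcab9876543210)]),
  ((nat_lit 6), [(nat_lit 0xfedcba9876543210), (nat_lit 0xefdcba9867543210)]),
  ((nat_lit 14), [(nat_lit 0xfedcba9876543210), (nat_lit 0xefdcba9876543210)])]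

def sm_D41 : List ℕ := [(nat_lit 0), (nat_lit 513), (nat_lit 1025), (nat_lit 1537), (nat_lit 2049), (nat_lit 259074), (nat_lit 273922), (nat_lit 288770), (nat_lit 324098), (nat_lit 339970), (nat_lit 378882), (nat_lit 443906), (nat_lit 462850), (nat_lit 507906), (nat_lit 582658), (nat_lit 690178), (nat_lit 0), (nat_lit 2561), (nat_lit 0), (nat_lit 3073), (nat_lit 0), (nat_lit 3585), (nat_lit 0), (nat_lit 4097), (nat_lit 0), (nat_lit 4609), (nat_lit 0), (nat_lit 5121), (nat_lit 0), (nat_lit 6145)]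

def sm_L42 : List (ℕ × List ℕ) := [((nat_lit 0), [(nat_lit 0xfedcba9876543210), (nat_lit 0xefcdab8967452301), (nat_lit 0xdcfe98ba54761032), (nat_lit 0xcdef89ab45670123)]),
  ((nat_lit 8), [(nat_lit 0xfedcba9876543210), (nat_lit 0xefcdab8976543210), (nat_lit 0xdcfe98ba76543210), (nat_lit 0xcdef89ab76543210)]),
  ((nat_lit 4), [(nat_lit 0xfedcba9876543210), (nat_lit 0xefcdba9867453210), (nat_lit 0xdcfeba9854763210), (nat_lit 0xcdefba9845673210)]),
  ((nat_lit 2), [(nat_lit 0xfedcba9876543210), (nat_lit 0xefdcab9867542310)]),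
  ((nat_lit 12), [(nat_lit 0xfedcba9876543210), (nat_lit 0xdcfeba9876543210), (nat_lit 0xdcefab9876543210), (nat_lit 0xfecdab9876543210)]),
  ((nat_lit 10), [(nat_lit 0xfedcba9876543210), (nat_lit 0xefdcab9876543210)]),
  ((nat_lit 6), [(nat_lit 0xfedcba9876543210), (nat_lit 0xefdcba9867543210)])]

def sm_D42 : List ℕ := [(nat_lit 0), (nat_lit 513), (nat_lit 1025), (nat_lit 262146), (nat_lit 0), (nat_lit 1537), (nat_lit 3073), (nat_lit 411650), (nat_lit 0), (nat_lit 2049), (nat_lit 3585), (nat_lit 592386), (nat_lit 0), (nat_lit 2561), (nat_lit 0), (nat_lit 5633), (nat_lit 895490), (nat_lit 957954), (nat_lit 0), (nat_lit 4609), (nat_lit 0), (nat_lit 5121)]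

def sm_L43 : List (ℕ × List ℕ) := [((nat_lit 8), [(nat_lit 0xfedcba9876543210), (nat_lit 0xdcfe98ba76543210), (nat_lit 0xba98fedc76543210), (nat_lit 0x98badcfe76543210)]),
  ((nat_lit 4), [(nat_lit 0xfedcba9876543210), (nat_lit 0xdcfeba9854763210)])]

def sm_D43 : List ℕ := [(nat_lit 0), (nat_lit 513), (nat_lit 1537), (nat_lit 37378), (nat_lit 0), (nat_lit 1025)]

def sm_L44 : List (ℕ × List ℕ) := [((nat_lit 0), [(nat_lit 0xfedcba9876543210), (nat_lit 0xefcdab8967452301), (nat_lit 0xdcfe98ba54761032), (nat_lit 0xcdef89ab45670123)]),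
  ((nat_lit 2), [(nat_lit 0xfedcba9876543210), (nat_lit 0xefdcab9867542310)])]

def sm_D44 : List ℕ := [(nat_lit 0), (nat_lit 513), (nat_lit 1025), (nat_lit 36866), (nat_lit 0), (nat_lit 1537)]

def sm_L45 : List (ℕ × List ℕ) := [((nat_lit 0), [(nat_lit 0xfedcba9876543210), (nat_lit 0xefcdab8967452301), (nat_lit 0xdcfe98ba54761032), (nat_lit 0xcdef89ab45670123)]),
  ((nat_lit 8), [(nat_lit 0xfedcba9876543210), (nat_lit 0xefcdab8976543210), (nat_lit 0xdcfe98ba76543210), (nat_lit 0xcdef89ab76543210)])]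

def sm_D45 : List ℕ := [(nat_lit 0), (nat_lit 513), (nat_lit 1025), (nat_lit 50178), (nat_lit 0), (nat_lit 1537), (nat_lit 2049), (nat_lit 124930)]

def sm_L46 : List (ℕ × List ℕ) := [((nat_lit 0), [(nat_lit 0xfedcba9876543210), (nat_lit 0xdcfe98ba54761032), (nat_lit 0xba98fedc32107654), (nat_lit 0x76543210fedcba98), (nat_lit 0x98badcfe10325476), (nat_lit 0x54761032dcfe98ba), (nat_lit 0x32107654ba98fedc), (nat_lit 0x1032547698badcfe)]),
  ((nat_lit 8), [(nat_lit 0xfedcba9876543210), (nat_lit 0xdcfe98ba76543210), (nat_lit 0xba98fedc76543210), (nat_lit 0x98badcfe76543210)]),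
  ((nat_lit 4), [(nat_lit 0xfedcba9876543210), (nat_lit 0xdcfeba9854763210)])]

def sm_D46 : List ℕ := [(nat_lit 0), (nat_lit 513), (nat_lit 1025), (nat_lit 1537), (nat_lit 91138), (nat_lit 99842), (nat_lit 121346), (nat_lit 159234), (nat_lit 0), (nat_lit 2049), (nat_lit 3073), (nat_lit 297986), (nat_lit 0), (nat_lit 2561)]

def sm_L47 : List (ℕ × List ℕ) := [((nat_lit 0), [(nat_lit 0xfedcba9876543210), (nat_lit 0x76543210fedcba98), (nat_lit 0xba98fedc32107654), (nat_lit 0x32107654ba98fedc)])]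

def sm_D47 : List ℕ := [(nat_lit 0), (nat_lit 513), (nat_lit 1025), (nat_lit 25602)]

def sm_L48 : List (ℕ × List ℕ) := [((nat_lit 0), [(nat_lit 0xfedcba9876543210), (nat_lit 0x54763210dcfeba98), (nat_lit 0x98badcfe32107654), (nat_lit 0xdcfe98ba54761032), (nat_lit 0xefcdab8967452301), (nat_lit 0x10327654ba98dcfe), (nat_lit 0x76541032fedc98ba), (nat_lit 0x45672301cdefab89), (nat_lit 0xba98fedc10325476), (nat_lit 0x89abcdef23016745), (nat_lit 0xcdef89ab45670123), (nat_lit 0x3210547698bafedc), (nat_lit 0x1236745ab89cdef), (nat_lit 0x67450123efcd89ab), (nat_lit 0xab89efcd01234567), (nat_lit 0x2301456789abefcd)]),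
  ((nat_lit 8), [(nat_lit 0xfedcba9876543210), (nat_lit 0xefcdab8976543210)]),
  ((nat_lit 4), [(nat_lit 0xfedcba9876543210), (nat_lit 0xefcdba9867453210)]),
  ((nat_lit 2), [(nat_lit 0xfedcba9876543210), (nat_lit 0xefdcab9867542310)]),
  ((nat_lit 12), [(nat_lit 0xfedcba9876543210), (nat_lit 0xefcdba9876543210)]),
  ((nat_lit 10), [(nat_lit 0xfedcba9876543210), (nat_lit 0xefdcab9876543210)]),
  ((nat_lit 6), [(nat_lit 0xfedcba9876543210), (nat_lit 0xefdcba9867543210)])]

def sm_D48 : List ℕ := [(nat_lit 0), (nat_lit 513), (nat_lit 1025), (nat_lit 1537), (nat_lit 2049), (nat_lit 227330), (nat_lit 241154), (nat_lit 254978), (nat_lit 288258), (nat_lit 303106), (nat_lit 339970), (nat_lit 401922), (nat_lit 419842), (nat_lit 462850), (nat_lit 534530), (nat_lit 637954), (nat_lit 0), (nat_lit 2561), (nat_lit 0), (nat_lit 3073), (nat_lit 0), (nat_lit 3585), (nat_lit 0), (nat_lit 4097), (nat_lit 0), (nat_lit 4609), (nat_lit 0), (nat_lit 5121)]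

def sm_L49 : List (ℕ × List ℕ) := [((nat_lit 0), [(nat_lit 0xfedcba9876543210), (nat_lit 0xefcdab8967452301), (nat_lit 0xdcfe98ba54761032), (nat_lit 0xcdef89ab45670123)]),
  ((nat_lit 8), [(nat_lit 0xfedcba9876543210), (nat_lit 0xefcdab8976543210)]),
  ((nat_lit 4), [(nat_lit 0xfedcba9876543210), (nat_lit 0xefcdba9867453210)]),
  ((nat_lit 2), [(nat_lit 0xfedcba9876543210), (nat_lit 0xefdcab9867542310)]),
  ((nat_lit 12), [(nat_lit 0xfedcba9876543210), (nat_lit 0xefcdba9876543210)]),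
  ((nat_lit 10), [(nat_lit 0xfedcba9876543210), (nat_lit 0xefdcab9876543210)]),
  ((nat_lit 6), [(nat_lit 0xfedcba9876543210), (nat_lit 0xefdcba9867543210)])]

def sm_D49 : List ℕ := [(nat_lit 0), (nat_lit 513), (nat_lit 1025), (nat_lit 147458), (nat_lit 0), (nat_lit 1537), (nat_lit 0), (nat_lit 2049), (nat_lit 0), (nat_lit 2561), (nat_lit 0), (nat_lit 3073), (nat_lit 0), (nat_lit 3585), (nat_lit 0), (nat_lit 4097)]

def sm_L50 : List (ℕ × List ℕ) := [((nat_lit 0), [(nat_lit 0xfedcba9876543210), (nat_lit 0xefcdab8967452301), (nat_lit 0xdcfe98ba54761032), (nat_lit 0xba98fedc32107654), (nat_lit 0xcdef89ab45670123), (nat_lit 0xab89efcd23016745), (nat_lit 0x98badcfe10325476), (nat_lit 0x89abcdef01234567)]),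
  ((nat_lit 8), [(nat_lit 0xfedcba9876543210), (nat_lit 0xefcdab8976543210)]),
  ((nat_lit 4), [(nat_lit 0xfedcba9876543210), (nat_lit 0xefcdba9867453210)]),
  ((nat_lit 2), [(nat_lit 0xfedcba9876543210), (nat_lit 0xefdcab9867542310)]),
  ((nat_lit 12), [(nat_lit 0xfedcba9876543210), (nat_lit 0xefcdba9876543210)]),
  ((nat_lit 10), [(nat_lit 0xfedcba9876543210), (nat_lit 0xefdcab9876543210)]),
  ((nat_lit 6), [(nat_lit 0xfedcba9876543210), (nat_lit 0xefdcba9867543210)])]

def sm_D50 : List ℕ := [(nat_lit 0), (nat_lit 513), (nat_lit 1025), (nat_lit 1537), (nat_lit 185346), (nat_lit 198146), (nat_lit 227842), (nat_lit 278018), (nat_lit 0), (nat_lit 2049), (nat_lit 0), (nat_lit 2561), (nat_lit 0), (nat_lit 3073), (nat_lit 0), (nat_lit 3585), (nat_lit 0), (nat_lit 4097), (nat_lit 0), (nat_lit 4609)]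

def sm_L51 : List (ℕ × List ℕ) := [((nat_lit 0), [(nat_lit 0xfedcba9876543210), (nat_lit 0xefcdab8967452301), (nat_lit 0xdcfe98ba54761032), (nat_lit 0xba98fedc32107654), (nat_lit 0x76543210fedcba98), (nat_lit 0xcdef89ab45670123), (nat_lit 0xab89efcd23016745), (nat_lit 0x67452301efcdab89), (nat_lit 0x98badcfe10325476), (nat_lit 0x54761032dcfe98ba), (nat_lit 0x32107654ba98fedc), (nat_lit 0x89abcdef01234567), (nat_lit 0x45670123cdef89ab), (nat_lit 0x23016745ab89efcd), (nat_lit 0x1032547698badcfe), (nat_lit 0x123456789abcdef)]),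
  ((nat_lit 8), [(nat_lit 0xfedcba9876543210), (nat_lit 0xefcdab8976543210), (nat_lit 0xdcfe98ba76543210), (nat_lit 0xcdef89ab76543210)]),
  ((nat_lit 4), [(nat_lit 0xfedcba9876543210), (nat_lit 0xefcdba9867453210), (nat_lit 0xdcfeba9854763210), (nat_lit 0xcdefba9845673210)]),
  ((nat_lit 2), [(nat_lit 0xfedcba9876543210), (nat_lit 0xefdcab9867542310)]),
  ((nat_lit 12), [(nat_lit 0xfedcba9876543210), (nat_lit 0xfecdab9876543210)]),
  ((nat_lit 10), [(nat_lit 0xfedcba9876543210), (nat_lit 0xefdcab9876543210)]),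
  ((nat_lit 6), [(nat_lit 0xfedcba9876543210), (nat_lit 0xefdcba9867543210)]),
  ((nat_lit 14), [(nat_lit 0xfedcba9876543210), (nat_lit 0xefdcba9876543210)])]

def sm_D51 : List ℕ := [(nat_lit 0), (nat_lit 513), (nat_lit 1025), (nat_lit 1537), (nat_lit 2049), (nat_lit 366594), (nat_lit 384514), (nat_lit 402434), (nat_lit 443906), (nat_lit 462850), (nat_lit 507906), (nat_lit 582146), (nat_lit 604162), (nat_lit 655362), (nat_lit 739330), (nat_lit 859138), (nat_lit 0), (nat_lit 2561), (nat_lit 4097), (nat_lit 1186818), (nat_lit 0), (nat_lit 3073), (nat_lit 4609), (nat_lit 1482242), (nat_lit 0), (nat_lit 3585), (nat_lit 0), (nat_lit 144400643), (nat_lit 0), (nat_lit 5633), (nat_lit 0), (nat_lit 6145), (nat_lit 0), (nat_lit 7681)]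

def sm_L52 : List (ℕ × List ℕ) := [((nat_lit 0), [(nat_lit 0xfedcba9876543210), (nat_lit 0xefcdab8967452301), (nat_lit 0xdcfe98ba54761032), (nat_lit 0xba98fedc32107654), (nat_lit 0x76543210fedcba98), (nat_lit 0xcdef89ab45670123), (nat_lit 0xab89efcd23016745), (nat_lit 0x67452301efcdab89), (nat_lit 0x98badcfe10325476), (nat_lit 0x54761032dcfe98ba), (nat_lit 0x32107654ba98fedc), (nat_lit 0x89abcdef01234567), (nat_lit 0x45670123cdef89ab), (nat_lit 0x23016745ab89efcd), (nat_lit 0x1032547698badcfe), (nat_lit 0x123456789abcdef)]),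
  ((nat_lit 8), [(nat_lit 0xfedcba9876543210), (nat_lit 0xefcdab8976543210), (nat_lit 0xdcfe98ba76543210), (nat_lit 0xba98fedc76543210), (nat_lit 0xcdef89ab76543210), (nat_lit 0xab89efcd76543210), (nat_lit 0x98badcfe76543210), (nat_lit 0x89abcdef76543210)]),
  ((nat_lit 4), [(nat_lit 0xfedcba9876543210), (nat_lit 0xefcdba9867453210), (nat_lit 0xdcfeba9854763210), (nat_lit 0xcdefba9845673210)]),
  ((nat_lit 2), [(nat_lit 0xfedcba9876543210), (nat_lit 0xefdcab9867542310)]),
  ((nat_lit 12), [(nat_lit 0xfedcba9876543210), (nat_lit 0xfecdba9876543210)]),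
  ((nat_lit 10), [(nat_lit 0xfedcba9876543210), (nat_lit 0xfedcab9867543210)]),
  ((nat_lit 6), [(nat_lit 0xfedcba9876543210), (nat_lit 0xefdcba9867543210)]),
  ((nat_lit 14), [(nat_lit 0xfedcba9876543210), (nat_lit 0xefdcba9876543210)])]

def sm_D52 : List ℕ := [(nat_lit 0), (nat_lit 513), (nat_lit 1025), (nat_lit 1537), (nat_lit 2049), (nat_lit 406530), (nat_lit 425474), (nat_lit 444418), (nat_lit 487938), (nat_lit 507906), (nat_lit 555010), (nat_lit 632322), (nat_lit 655362), (nat_lit 708610), (nat_lit 795650), (nat_lit 919554), (nat_lit 0), (nat_lit 2561), (nat_lit 4097), (nat_lit 5121), (nat_lit 1292290), (nat_lit 1328130), (nat_lit 1402882), (nat_lit 1520642), (nat_lit 0), (nat_lit 3073), (nat_lit 4609), (nat_lit 1896962), (nat_lit 0), (nat_lit 3585), (nat_lit 0), (nat_lit 203708163), (nat_lit 0), (nat_lit 185004291), (nat_lit 0), (nat_lit 6657), (nat_lit 0), (nat_lit 8193)]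

def sm_L53 : List (ℕ × List ℕ) := [((nat_lit 0), [(nat_lit 0xfedcba9876543210), (nat_lit 0xefcdab8967452301), (nat_lit 0xdcfe98ba54761032), (nat_lit 0xba98fedc32107654), (nat_lit 0x76543210fedcba98), (nat_lit 0xcdef89ab45670123), (nat_lit 0xab89efcd23016745), (nat_lit 0x67452301efcdab89), (nat_lit 0x98badcfe10325476), (nat_lit 0x54761032dcfe98ba), (nat_lit 0x32107654ba98fedc), (nat_lit 0x89abcdef01234567), (nat_lit 0x45670123cdef89ab), (nat_lit 0x23016745ab89efcd), (nat_lit 0x1032547698badcfe), (nat_lit 0x123456789abcdef)]),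
  ((nat_lit 8), [(nat_lit 0xfedcba9876543210), (nat_lit 0xefcdab8976543210), (nat_lit 0xdcfe98ba76543210), (nat_lit 0xcdef89ab76543210)]),
  ((nat_lit 4), [(nat_lit 0xfedcba9876543210), (nat_lit 0xefcdba9867453210), (nat_lit 0xdcfeba9854763210), (nat_lit 0xcdefba9845673210)]),
  ((nat_lit 2), [(nat_lit 0xfedcba9876543210), (nat_lit 0xefdcab9867542310)]),
  ((nat_lit 12), [(nat_lit 0xfedcba9876543210), (nat_lit 0xdcfeba9876543210), (nat_lit 0xdcefab9876543210), (nat_lit 0xfecdab9876543210)]),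
  ((nat_lit 10), [(nat_lit 0xfedcba9876543210), (nat_lit 0xefdcab9876543210)]),
  ((nat_lit 6), [(nat_lit 0xfedcba9876543210), (nat_lit 0xefdcba9867543210)]),
  ((nat_lit 14), [(nat_lit 0xfedcba9876543210), (nat_lit 0xefdcba9876543210)])]

def sm_D53 : List ℕ := [(nat_lit 0), (nat_lit 513), (nat_lit 1025), (nat_lit 1537), (nat_lit 2049), (nat_lit 406530), (nat_lit 425474), (nat_lit 444418), (nat_lit 487938), (nat_lit 507906), (nat_lit 555010), (nat_lit 632322), (nat_lit 655362), (nat_lit 708610), (nat_lit 795650), (nat_lit 919554), (nat_lit 0), (nat_lit 2561), (nat_lit 4097), (nat_lit 1257474), (nat_lit 0), (nat_lit 3073), (nat_lit 4609), (nat_lit 1561090), (nat_lit 0), (nat_lit 3585), (nat_lit 0), (nat_lit 6657), (nat_lit 2033154), (nat_lit 2126338), (nat_lit 0), (nat_lit 5633), (nat_lit 0), (nat_lit 6145), (nat_lit 0), (nat_lit 7169)]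

def sm_L54 : List (ℕ × List ℕ) := [((nat_lit 0), [(nat_lit 0xfedcba9876543210), (nat_lit 0x76543210fedcba98), (nat_lit 0x76543210ba98fedc), (nat_lit 0xfedcba9832107654), (nat_lit 0x54763210ba98dcfe), (nat_lit 0xdcfeba9832105476), (nat_lit 0x54763210fedc98ba), (nat_lit 0x54672310ab98dcef), (nat_lit 0xdcefab9823105467), (nat_lit 0xdcfeba9876541032), (nat_lit 0x54672310efdc98ab), (nat_lit 0x76452310ab98fecd), (nat_lit 0xfecdab9823107645), (nat_lit 0xdcefab9867541023), (nat_lit 0x76452310efdcba89), (nat_lit 0xfecdab9867543201)]),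
  ((nat_lit 8), [(nat_lit 0xfedcba9876543210), (nat_lit 0xba98fedc76543210), (nat_lit 0xba98dcfe54763210), (nat_lit 0xfedc98ba54763210), (nat_lit 0xab98dcef54672310), (nat_lit 0xefdc98ab54672310), (nat_lit 0xab98fecd76452310), (nat_lit 0xefdcba8976452310)]),
  ((nat_lit 4), [(nat_lit 0xfedcba9876543210), (nat_lit 0xdcfeba9854763210), (nat_lit 0xdcefab9854672310), (nat_lit 0xfecdab9876452310)]),
  ((nat_lit 2), [(nat_lit 0xfedcba9876543210), (nat_lit 0xefdcab9867542310)])]

def sm_D54 : List ℕ := [(nat_lit 0), (nat_lit 513), (nat_lit 44034), (nat_lit 57858), (nat_lit 66050), (nat_lit 83458), (nat_lit 102402), (nat_lit 112642), (nat_lit 135170), (nat_lit 158210), (nat_lit 171010), (nat_lit 198146), (nat_lit 227842), (nat_lit 260098), (nat_lit 312322), (nat_lit 389634), (nat_lit 0), (nat_lit 1025), (nat_lit 519682), (nat_lit 566274), (nat_lit 590850), (nat_lit 641026), (nat_lit 692738), (nat_lit 775170), (nat_lit 0), (nat_lit 1537), (nat_lit 954370),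 (nat_lit 1017346), (nat_lit 0), (nat_lit 2049)]

def sm_L55 : List (ℕ × List ℕ) := [((nat_lit 0), [(nat_lit 0xfedcba9876543210), (nat_lit 0xefcdab8967452301)]),
  ((nat_lit 8), [(nat_lit 0xfedcba9876543210), (nat_lit 0xefcdab8976543210)]),
  ((nat_lit 4), [(nat_lit 0xfedcba9876543210), (nat_lit 0xefcdba9867453210)]),
  ((nat_lit 2), [(nat_lit 0xfedcba9876543210), (nat_lit 0xefdcab9867542310)]),
  ((nat_lit 12), [(nat_lit 0xfedcba9876543210), (nat_lit 0xefcdba9876543210)])]

def sm_D55 : List ℕ := [(nat_lit 0), (nat_lit 513), (nat_lit 0), (nat_lit 1025), (nat_lit 0), (nat_lit 1537), (nat_lit 0), (nat_lit 2049), (nat_lit 0), (nat_lit 2561)]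

def sm : PM :=
  ⟨(nat_lit 16), (nat_lit 4), [(nat_lit 0xefcdab8967452301), (nat_lit 0xdcfe98ba54761032), (nat_lit 0xba98fedc32107654), (nat_lit 0x76543210fedcba98), (nat_lit 0xefcdab8976543210), (nat_lit 0xefcdba9867453210), (nat_lit 0xefdcab9867542310), (nat_lit 0xdcfe98ba76543210), (nat_lit 0xdcfeba9854763210), (nat_lit 0xba98fedc76543210), (nat_lit 0xfedc7654ba983210), (nat_lit 0xfebadc9876325410), (nat_lit 0xfdecb9a875643120), (nat_lit 0xefcdba9876543210), (nat_lit 0xefdcab9876543210), (nat_lit 0xefdcba9867543210), (nat_lit 0xdcfeba9876543210), (nat_lit 0xefdcba9876543210), (nat_lit 0xfedcba9876543210), (nat_lit 0xfedcba9876543210)],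
    [[.l 1, .l 2, .l 3, .l 4, .l 5, .l 6, .l 7, .l 8, .l 9, .l 10, .l 11, .l 12, .l 13, .l 14, .l 15, .l 16, .l 17, .l 18, .l 19, .l 20],
    [.l 4, .l 3, .l 2, .l 1],
    [.l 1, .l 5, .l 6, .l 7],
    [.l 1, .l 2, .l 3, .l 4, .l 5, .l 6, .l 7],
    [.l 1, .l 2, .l 5, .l 6, .l 8, .l 9],
    [.l 1, .l 2, .l 3, .l 5, .l 8, .l 10],
    [.l 2, .l 1],
    [.l 1, .l 2, .l 3, .l 4, .l 5, .l 6, .l 7, .l 8, .l 9],
    [.l 1, .l 2, .l 3, .l 4, .l 5, .l 6, .l 7, .l 8, .l 10],
    [.l 1, .l 2, .l 3, .l 4, .l 5, .l 6, .l 8, .l 9, .l 10],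
    [.l 1, .l 2, .l 3, .l 4, .l 5, .l 6, .l 7, .l 8, .l 9, .l 10],
    [.l 1],
    [.l 1, .l 5, .l 6, .l 7, .l 14, .l 15, .l 16, .l 19],
    [.l 1, .l 2, .l 5, .l 6, .l 8, .l 9, .l 14, .l 17, .l 19, .l 20],
    [.l 1, .l 2, .l 5, .l 6, .l 8, .l 9, .l 14, .l 19, .l 20],
    [.l 1, .l 2, .l 3, .l 4, .l 5, .l 6, .l 7, .l 8, .l 9, .l 10, .l 14, .l 15, .l 16, .l 19, .l 20],
    [.l 1, .l 2, .l 3, .l 4, .l 5, .l 6, .l 7, .l 8, .l 9, .l 10, .l 14, .l 15, .l 16, .l 19, .l 20, .l 17],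
    [.l 1, .l 2, .l 3, .l 4, .l 5, .l 6, .l 7, .l 8, .l 9, .l 14, .l 15, .l 16, .l 19, .l 20, .l 17],
    [.l 1, .l 2, .l 3, .l 4, .l 5, .l 6, .l 7, .l 8, .l 9, .l 14, .l 15, .l 16, .l 19, .l 20],
    [.l 1, .l 2, .l 3, .l 4, .l 5, .l 6, .l 7, .l 8, .l 10, .l 14, .l 15, .l 16, .l 19, .l 20],
    [.l 1, .l 2, .l 3, .l 4, .l 5, .l 6, .l 7, .l 14, .l 15, .l 16, .l 19],
    [.l 1, .l 2, .l 3, .l 4, .l 5, .l 6, .l 8, .l 9, .l 14, .l 17, .l 19, .l 20],
    [.l 1, .l 5, .l 6, .l 14, .l 19],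
    [.l 1, .l 2, .l 3, .l 4, .l 5, .l 6, .l 8, .l 9, .l 10, .l 14, .l 17, .l 19, .l 20],
    [.l 2, .l 3, .l 4, .l 8, .l 9, .l 10, .l 17],
    [.l 1, .l 2, .l 3, .l 4, .l 5, .l 6, .l 7, .l 8, .l 9, .l 10, .l 14, .l 19],
    [.l 1, .l 2, .l 3, .l 4, .l 5, .l 6, .l 8, .l 9, .l 14, .l 19, .l 20],
    [.l 1, .l 5],
    [.l 1, .l 5, .l 6],
    [.l 3, .l 2, .l 1],
    [.l 1, .l 5, .l 6, .l 7, .l 14, .l 15, .l 19],
    [.l 1, .l 2, .l 3, .l 4, .l 5, .l 6, .l 7, .l 8, .l 9, .l 10, .l 11, .l 12, .l 13],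
    [.l 1, .l 2, .l 3, .l 4, .l 5, .l 6, .l 7, .l 8, .l 9, .l 10, .l 11, .l 12],
    [.l 5, .l 6, .l 7, .l 8, .l 9, .l 10, .l 11, .l 12, .l 13],
    [.mul (.l 4) (.l 6), .mul (.l 3) (.l 5), .l 2, .l 1],
    [.mul (.l 7) (.l 3), .mul (.l 6) (.l 2), .l 5, .l 1],
    [.l 1, .l 5, .l 6, .l 7, .l 14, .l 15, .l 16, .l 19, .l 18],
    [.l 1, .l 2, .l 3, .l 4, .l 5, .l 6, .l 7, .l 8, .l 9, .l 10, .l 14, .l 15, .l 16, .l 19, .l 20, .l 17, .l 18],
    [.l 1, .l 2, .l 5, .l 6, .l 7, .l 8, .l 9, .l 14, .l 15, .l 16, .l 17, .l 18, .l 19, .l 20],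
    [.l 1, .l 2, .l 3, .l 4, .l 5, .l 6, .l 7, .l 8, .l 9, .l 14, .l 15, .l 16, .l 19, .l 20, .l 17, .l 18],
    [.l 1, .l 2, .l 3, .l 4, .l 5, .l 6, .l 7, .l 8, .l 10, .l 14, .l 15, .l 16, .l 19, .l 20, .l 18],
    [.l 1, .l 2, .l 3, .l 4, .l 5, .l 6, .l 7, .l 14, .l 15, .l 16, .l 19, .l 18],
    [.l 1, .l 2, .l 5, .l 6, .l 7, .l 8, .l 9, .l 14, .l 15, .l 16, .l 17, .l 19, .l 20],
    [.l 8, .l 9, .l 10],
    [.l 1, .l 2, .l 7],
    [.l 1, .l 2, .l 5, .l 8],
    [.l 2, .l 3, .l 4, .l 8, .l 9, .l 10],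
    [.l 4, .l 3],
    [.mul (.mul (.l 17) (.l 4)) (.l 17), .mul (.mul (.l 17) (.l 3)) (.l 17), .l 2, .l 1, .l 5, .l 6, .l 7, .l 14, .l 15, .l 16, .l 19],
    [.l 1, .l 2, .l 5, .l 6, .l 7, .l 14, .l 15, .l 16, .l 19],
    [.l 1, .l 2, .l 3, .l 5, .l 6, .l 7, .l 14, .l 15, .l 16, .l 19],
    [.l 1, .l 2, .l 3, .l 4, .l 5, .l 6, .l 7, .l 8, .l 9, .l 14, .l 15, .l 16, .l 19, .l 20, .l 18],
    [.l 1, .l 2, .l 3, .l 4, .l 5, .l 6, .l 7, .l 8, .l 9, .l 10, .l 14, .l 15, .l 16, .l 19, .l 20, .l 18],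
    [.l 1, .l 2, .l 3, .l 4, .l 5, .l 6, .l 7, .l 8, .l 9, .l 14, .l 15, .l 16, .l 17, .l 18, .l 19, .l 20],
    [.l 4, .l 10, .l 9, .l 7],
    [.l 1, .l 5, .l 6, .l 7, .l 14, .l 19]],
    [sm_L0, sm_L1, sm_L2, sm_L3, sm_L4, sm_L5, sm_L6, sm_L7, sm_L8, sm_L9, sm_L10, sm_L11, sm_L12, sm_L13, sm_L14, sm_L15, sm_L16, sm_L17, sm_L18, sm_L19, sm_L20, sm_L21, sm_L22, sm_L23, sm_L24, sm_L25, sm_L26, sm_L27, sm_L28, sm_L29, sm_L30, sm_L31, sm_L32, sm_L33, sm_L34, sm_L35, sm_L36, sm_L37, sm_L38, sm_L39, sm_L40, sm_L41, sm_L42, sm_L43, sm_L44, sm_L45, sm_L46, sm_L47, sm_L48, sm_L49, sm_L50, sm_L51, sm_L52, sm_L53, sm_L54, sm_L55], [sm_D0, sm_D1, sm_D2, sm_D3, sm_D4, sm_D5, sm_D6, sm_D7, sm_D8, sm_D9, sm_D10, sm_D11, sm_D12, sm_D13, sm_D14, sm_D15, sm_D16, sm_D17, sm_D18, sm_D19, sm_D20, sm_D21, sm_D22, sm_D23, sm_D24, sm_D25, sm_D26, sm_D27, sm_D28, sm_D29, sm_D30, sm_D31, sm_D32, sm_D33, sm_D34, sm_D35, sm_D36, sm_D37, sm_D38, sm_D39, sm_D40, sm_D41, sm_D42,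 sm_D43, sm_D44, sm_D45, sm_D46, sm_D47, sm_D48, sm_D49, sm_D50, sm_D51, sm_D52, sm_D53, sm_D54, sm_D55]⟩

instance sm_ne : NeZero sm.n := ⟨by decide⟩

theorem sm_ok0 : sm.ok0 = true := by decide +kernel

theorem sm_k0 : allFrom (nat_lit 0) (nat_lit 1) sm.okK = true := by decide +kernel

theorem sm_k1 : allFrom (nat_lit 1) (nat_lit 1) sm.okK = true := by decide +kernel

theorem sm_k2 : allFrom (nat_lit 2) (nat_lit 1) sm.okK = true := by decide +kernel

theorem sm_k3 : allFrom (nat_lit 3) (nat_lit 1) sm.okK = true := by decide +kernel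

theorem sm_k4 : allFrom (nat_lit 4) (nat_lit 1) sm.okK = true := by decide +kernel

theorem sm_k5 : allFrom (nat_lit 5) (nat_lit 1) sm.okK = true := by decide +kernel

theorem sm_k6 : allFrom (nat_lit 6) (nat_lit 1) sm.okK = true := by decide +kernel

theorem sm_k7 : allFrom (nat_lit 7) (nat_lit 1) sm.okK = true := by decide +kernel

theorem sm_k8 : allFrom (nat_lit 8) (nat_lit 1) sm.okK = true := by decide +kernel

theorem sm_k9 : allFrom (nat_lit 9) (nat_lit 1) sm.okK = true := by decide +kernel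

theorem sm_k10 : allFrom (nat_lit 10) (nat_lit 1) sm.okK = true := by decide +kernel

theorem sm_k11 : allFrom (nat_lit 11) (nat_lit 1) sm.okK = true := by decide +kernel

theorem sm_k12 : allFrom (nat_lit 12) (nat_lit 1) sm.okK = true := by decide +kernel

theorem sm_k13 : allFrom (nat_lit 13) (nat_lit 1) sm.okK = true := by decide +kernel

theorem sm_k14 : allFrom (nat_lit 14) (nat_lit 1) sm.okK = true := by decide +kernel

theorem sm_k15 : allFrom (nat_lit 15) (nat_lit 1) sm.okK = true := by decide +kernel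

theorem sm_k16 : allFrom (nat_lit 16) (nat_lit 1) sm.okK = true := by decide +kernel

theorem sm_k17 : allFrom (nat_lit 17) (nat_lit 1) sm.okK = true := by decide +kernel

theorem sm_k18 : allFrom (nat_lit 18) (nat_lit 1) sm.okK = true := by decide +kernel

theorem sm_k19 : allFrom (nat_lit 19) (nat_lit 1) sm.okK = true := by decide +kernel

theorem sm_k20 : allFrom (nat_lit 20) (nat_lit 1) sm.okK = true := by decide +kernel

theorem sm_k21 : allFrom (nat_lit 21) (nat_lit 1) sm.okK = true := by decide +kernel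

theorem sm_k22 : allFrom (nat_lit 22) (nat_lit 1) sm.okK = true := by decide +kernel

theorem sm_k23 : allFrom (nat_lit 23) (nat_lit 1) sm.okK = true := by decide +kernel

theorem sm_k24 : allFrom (nat_lit 24) (nat_lit 1) sm.okK = true := by decide +kernel

theorem sm_k25 : allFrom (nat_lit 25) (nat_lit 1) sm.okK = true := by decide +kernel

theorem sm_k26 : allFrom (nat_lit 26) (nat_lit 1) sm.okK = true := by decide +kernel

theorem sm_k27 : allFrom (nat_lit 27) (nat_lit 1) sm.okK = true := by decide +kernel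

theorem sm_k28 : allFrom (nat_lit 28) (nat_lit 1) sm.okK = true := by decide +kernel

theorem sm_k29 : allFrom (nat_lit 29) (nat_lit 1) sm.okK = true := by decide +kernel

theorem sm_k30 : allFrom (nat_lit 30) (nat_lit 1) sm.okK = true := by decide +kernel

theorem sm_k31 : allFrom (nat_lit 31) (nat_lit 1) sm.okK = true := by decide +kernel

theorem sm_k32 : allFrom (nat_lit 32) (nat_lit 1) sm.okK = true := by decide +kernel

theorem sm_k33 : allFrom (nat_lit 33) (nat_lit 1) sm.okK = true := by decide +kernel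

theorem sm_k34 : allFrom (nat_lit 34) (nat_lit 1) sm.okK = true := by decide +kernel

theorem sm_k35 : allFrom (nat_lit 35) (nat_lit 1) sm.okK = true := by decide +kernel

theorem sm_k36 : allFrom (nat_lit 36) (nat_lit 1) sm.okK = true := by decide +kernel

theorem sm_k37 : allFrom (nat_lit 37) (nat_lit 1) sm.okK = true := by decide +kernel

theorem sm_k38 : allFrom (nat_lit 38) (nat_lit 1) sm.okK = true := by decide +kernel

theorem sm_k39 : allFrom (nat_lit 39) (nat_lit 1) sm.okK = true := by decide +kernel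

theorem sm_k40 : allFrom (nat_lit 40) (nat_lit 1) sm.okK = true := by decide +kernel

theorem sm_k41 : allFrom (nat_lit 41) (nat_lit 1) sm.okK = true := by decide +kernel

theorem sm_k42 : allFrom (nat_lit 42) (nat_lit 1) sm.okK = true := by decide +kernel

theorem sm_k43 : allFrom (nat_lit 43) (nat_lit 1) sm.okK = true := by decide +kernel

theorem sm_k44 : allFrom (nat_lit 44) (nat_lit 1) sm.okK = true := by decide +kernel

theorem sm_k45 : allFrom (nat_lit 45) (nat_lit 1) sm.okK = true := by decide +kernel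

theorem sm_k46 : allFrom (nat_lit 46) (nat_lit 1) sm.okK = true := by decide +kernel

theorem sm_k47 : allFrom (nat_lit 47) (nat_lit 1) sm.okK = true := by decide +kernel

theorem sm_k48 : allFrom (nat_lit 48) (nat_lit 1) sm.okK = true := by decide +kernel

theorem sm_k49 : allFrom (nat_lit 49) (nat_lit 1) sm.okK = true := by decide +kernel

theorem sm_k50 : allFrom (nat_lit 50) (nat_lit 1) sm.okK = true := by decide +kernel

theorem sm_k51 : allFrom (nat_lit 51) (nat_lit 1) sm.okK = true := by decide +kernel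

theorem sm_k52 : allFrom (nat_lit 52) (nat_lit 1) sm.okK = true := by decide +kernel

theorem sm_k53 : allFrom (nat_lit 53) (nat_lit 1) sm.okK = true := by decide +kernel

theorem sm_k54 : allFrom (nat_lit 54) (nat_lit 1) sm.okK = true := by decide +kernel

theorem sm_k55 : allFrom (nat_lit 55) (nat_lit 1) sm.okK = true := by decide +kernel

theorem sm_ok : sm.OK := PM.OK.of_check sm_ok0
  (of_allFrom_append (of_allFrom_append (of_allFrom_append (of_allFrom_append (of_allFrom_append (of_allFrom_append (of_allFrom_append (of_allFrom_append (of_allFrom_append (of_allFrom_append (of_allFrom_append (of_allFrom_append (of_allFrom_append (of_allFrom_append (of_allFrom_append (of_allFrom_append (of_allFrom_append (of_allFrom_append (of_allFrom_append (of_allFrom_append (of_allFrom_append (of_allFrom_append (of_allFrom_append (of_allFrom_append (of_allFrom_append (of_allFrom_append (of_allFrom_append (of_allFrom_append (of_allFrom_append (of_allFrom_append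 (of_allFrom_append (of_allFrom_append (of_allFrom_append (of_allFrom_append (of_allFrom_append (of_allFrom_append (of_allFrom_append (of_allFrom_append (of_allFrom_append (of_allFrom_append (of_allFrom_append (of_allFrom_append (of_allFrom_append (of_allFrom_append (of_allFrom_append (of_allFrom_append (of_allFrom_append (of_allFrom_append (of_allFrom_append (of_allFrom_append (of_allFrom_append (of_allFrom_append (of_allFrom_append (of_allFrom_append (of_allFrom_append (of_allFrom_append of_lt_zero sm_k0) sm_k1) sm_k2) sm_k3) sm_k4) sm_k5) sm_k6) sm_k7) sm_k8) sm_k9) sm_k10) sm_k11) sm_k12) sm_k13) sm_k14) sm_k15) sm_k16) sm_k17) sm_k18) sm_k19) sm_k20) sm_k21) sm_k22) sm_k23) sm_k24) sm_k25) sm_k26) sm_k27) sm_k28) sm_k29) sm_k30) sm_k31) sm_k32) sm_k33) sm_k34) sm_k35) sm_k36) sm_k37) sm_k38) sm_k39) sm_k40) sm_k41) sm_k42) sm_k43) sm_k44) sm_k45) sm_k46) sm_k47) sm_k48) sm_k49) sm_k50) sm_k51) sm_k52) sm_k53) sm_k54) sm_k55)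

theorem sm_card0 : Nat.card (genW sm.gam (sm.ws 0)) = 20922789888000 := (sm_ok.card 0).trans (by decide +kernel)

theorem sm_card1 : Nat.card (genW sm.gam (sm.ws 1)) = 16 := (sm_ok.card 1).trans (by decide +kernel)

theorem sm_card2 : Nat.card (genW sm.gam (sm.ws 2)) = 16 := (sm_ok.card 2).trans (by decide +kernel)

theorem sm_card3 : Nat.card (genW sm.gam (sm.ws 3)) = 128 := (sm_ok.card 3).trans (by decide +kernel)

theorem sm_card4 : Nat.card (genW sm.gam (sm.ws 4)) = 64 := (sm_ok.card 4).trans (by decide +kernel)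

theorem sm_card5 : Nat.card (genW sm.gam (sm.ws 5)) = 64 := (sm_ok.card 5).trans (by decide +kernel)

theorem sm_card6 : Nat.card (genW sm.gam (sm.ws 6)) = 4 := (sm_ok.card 6).trans (by decide +kernel)

theorem sm_card7 : Nat.card (genW sm.gam (sm.ws 7)) = 512 := (sm_ok.card 7).trans (by decide +kernel)

theorem sm_card8 : Nat.card (genW sm.gam (sm.ws 8)) = 512 := (sm_ok.card 8).trans (by decide +kernel)

theorem sm_card9 : Nat.card (genW sm.gam (sm.ws 9)) = 512 := (sm_ok.card 9).trans (by decide +kernel)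

theorem sm_card10 : Nat.card (genW sm.gam (sm.ws 10)) = 1024 := (sm_ok.card 10).trans (by decide +kernel)

theorem sm_card11 : Nat.card (genW sm.gam (sm.ws 11)) = 2 := (sm_ok.card 11).trans (by decide +kernel)

theorem sm_card12 : Nat.card (genW sm.gam (sm.ws 12)) = 128 := (sm_ok.card 12).trans (by decide +kernel)

theorem sm_card13 : Nat.card (genW sm.gam (sm.ws 13)) = 256 := (sm_ok.card 13).trans (by decide +kernel)

theorem sm_card14 : Nat.card (genW sm.gam (sm.ws 14)) = 128 := (sm_ok.card 14).trans (by decide +kernel)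

theorem sm_card15 : Nat.card (genW sm.gam (sm.ws 15)) = 8192 := (sm_ok.card 15).trans (by decide +kernel)

theorem sm_card16 : Nat.card (genW sm.gam (sm.ws 16)) = 16384 := (sm_ok.card 16).trans (by decide +kernel)

theorem sm_card17 : Nat.card (genW sm.gam (sm.ws 17)) = 8192 := (sm_ok.card 17).trans (by decide +kernel)

theorem sm_card18 : Nat.card (genW sm.gam (sm.ws 18)) = 4096 := (sm_ok.card 18).trans (by decide +kernel)

theorem sm_card19 : Nat.card (genW sm.gam (sm.ws 19)) = 4096 := (sm_ok.card 19).trans (by decide +kernel)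

theorem sm_card20 : Nat.card (genW sm.gam (sm.ws 20)) = 1024 := (sm_ok.card 20).trans (by decide +kernel)

theorem sm_card21 : Nat.card (genW sm.gam (sm.ws 21)) = 1024 := (sm_ok.card 21).trans (by decide +kernel)

theorem sm_card22 : Nat.card (genW sm.gam (sm.ws 22)) = 16 := (sm_ok.card 22).trans (by decide +kernel)

theorem sm_card23 : Nat.card (genW sm.gam (sm.ws 23)) = 2048 := (sm_ok.card 23).trans (by decide +kernel)

theorem sm_card24 : Nat.card (genW sm.gam (sm.ws 24)) = 128 := (sm_ok.card 24).trans (by decide +kernel)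

theorem sm_card25 : Nat.card (genW sm.gam (sm.ws 25)) = 2048 := (sm_ok.card 25).trans (by decide +kernel)

theorem sm_card26 : Nat.card (genW sm.gam (sm.ws 26)) = 512 := (sm_ok.card 26).trans (by decide +kernel)

theorem sm_card27 : Nat.card (genW sm.gam (sm.ws 27)) = 4 := (sm_ok.card 27).trans (by decide +kernel)

theorem sm_card28 : Nat.card (genW sm.gam (sm.ws 28)) = 8 := (sm_ok.card 28).trans (by decide +kernel)

theorem sm_card29 : Nat.card (genW sm.gam (sm.ws 29)) = 8 := (sm_ok.card 29).trans (by decide +kernel)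

theorem sm_card30 : Nat.card (genW sm.gam (sm.ws 30)) = 64 := (sm_ok.card 30).trans (by decide +kernel)

theorem sm_card31 : Nat.card (genW sm.gam (sm.ws 31)) = 322560 := (sm_ok.card 31).trans (by decide +kernel)

theorem sm_card32 : Nat.card (genW sm.gam (sm.ws 32)) = 21504 := (sm_ok.card 32).trans (by decide +kernel)

theorem sm_card33 : Nat.card (genW sm.gam (sm.ws 33)) = 20160 := (sm_ok.card 33).trans (by decide +kernel)

theorem sm_card34 : Nat.card (genW sm.gam (sm.ws 34)) = 16 := (sm_ok.card 34).trans (by decide +kernel)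

theorem sm_card35 : Nat.card (genW sm.gam (sm.ws 35)) = 16 := (sm_ok.card 35).trans (by decide +kernel)

theorem sm_card36 : Nat.card (genW sm.gam (sm.ws 36)) = 256 := (sm_ok.card 36).trans (by decide +kernel)

theorem sm_card37 : Nat.card (genW sm.gam (sm.ws 37)) = 32768 := (sm_ok.card 37).trans (by decide +kernel)

theorem sm_card38 : Nat.card (genW sm.gam (sm.ws 38)) = 4096 := (sm_ok.card 38).trans (by decide +kernel)

theorem sm_card39 : Nat.card (genW sm.gam (sm.ws 39)) = 16384 := (sm_ok.card 39).trans (by decide +kernel)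

theorem sm_card40 : Nat.card (genW sm.gam (sm.ws 40)) = 8192 := (sm_ok.card 40).trans (by decide +kernel)

theorem sm_card41 : Nat.card (genW sm.gam (sm.ws 41)) = 2048 := (sm_ok.card 41).trans (by decide +kernel)

theorem sm_card42 : Nat.card (genW sm.gam (sm.ws 42)) = 2048 := (sm_ok.card 42).trans (by decide +kernel)

theorem sm_card43 : Nat.card (genW sm.gam (sm.ws 43)) = 8 := (sm_ok.card 43).trans (by decide +kernel)

theorem sm_card44 : Nat.card (genW sm.gam (sm.ws 44)) = 8 := (sm_ok.card 44).trans (by decide +kernel)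

theorem sm_card45 : Nat.card (genW sm.gam (sm.ws 45)) = 16 := (sm_ok.card 45).trans (by decide +kernel)

theorem sm_card46 : Nat.card (genW sm.gam (sm.ws 46)) = 64 := (sm_ok.card 46).trans (by decide +kernel)

theorem sm_card47 : Nat.card (genW sm.gam (sm.ws 47)) = 4 := (sm_ok.card 47).trans (by decide +kernel)

theorem sm_card48 : Nat.card (genW sm.gam (sm.ws 48)) = 1024 := (sm_ok.card 48).trans (by decide +kernel)

theorem sm_card49 : Nat.card (genW sm.gam (sm.ws 49)) = 256 := (sm_ok.card 49).trans (by decide +kernel)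

theorem sm_card50 : Nat.card (genW sm.gam (sm.ws 50)) = 512 := (sm_ok.card 50).trans (by decide +kernel)

theorem sm_card51 : Nat.card (genW sm.gam (sm.ws 51)) = 8192 := (sm_ok.card 51).trans (by decide +kernel)

theorem sm_card52 : Nat.card (genW sm.gam (sm.ws 52)) = 16384 := (sm_ok.card 52).trans (by decide +kernel)

theorem sm_card53 : Nat.card (genW sm.gam (sm.ws 53)) = 16384 := (sm_ok.card 53).trans (by decide +kernel)

theorem sm_card54 : Nat.card (genW sm.gam (sm.ws 54)) = 1024 := (sm_ok.card 54).trans (by decide +kernel)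

theorem sm_card55 : Nat.card (genW sm.gam (sm.ws 55)) = 32 := (sm_ok.card 55).trans (by decide +kernel)

end Cfsg.Lib.HY
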